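import Cfsg.Agent.Lib.SLTwoPrime.Algebra

/-! Normal subgroups of an irreducible group in dimension twice an odd prime. -/

set_option autoImplicit false

namespace Cfsg.Agent.Lib.SLTwoPrime

open Cfsg.Geo Matrix
open scoped MatrixGroups Kronecker commutatorElement

variable {ι : Type} [Fintype ι] [DecidableEq ι] {F : Type*} [Field F]

/-- the algebra spanned by a matrix group -/
abbrev adj (N : Subgroup (GL ι F)) : Subalgebra F (Matrix ι ι F) := Algebra.adjoin F (matrixSet N)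

lemma mem_adj {N : Subgroup (GL ι F)} {x : GL ι F} (hx : x ∈ N) : (x : Matrix ι ι F) ∈ adj N :=
  Algebra.subset_adjoin ⟨x, hx, rfl⟩

lemma commute_adj {N : Subgroup (GL ι F)} {M : Matrix ι ι F} (h : ∀ x ∈ N, M * x = x * M) :
    ∀ a ∈ adj N, M * a = a * M := by
  intro a ha
  induction ha using Algebra.adjoin_induction with
  | mem y hy => obtain ⟨x, hx, rfl⟩ := hy; exact h x hx
  | algebraMap c => exact (Algebra.commutes c M).symm
  | add a b _ _ ha hb => rw [mul_add, add_mul, ha, hb]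
  | mul a b _ _ ha hb => rw [← mul_assoc, ha, mul_assoc, hb, mul_assoc]

lemma inv_adj {H N : Subgroup (GL ι F)} (h : ∀ g ∈ H, ∀ x ∈ N, g * x * g⁻¹ ∈ N) : Inv H (adj N) := by
  intro g hg a ha
  induction ha using Algebra.adjoin_induction with
  | mem y hy =>
    obtain ⟨x, hx, rfl⟩ := hy
    have := mem_adj (h g hg x hx)
    simpa using this
  | algebraMap c => rw [AlgEquiv.commutes]; exact Subalgebra.algebraMap_mem _ c
  | add a b _ _ ha hb => rw [map_add]; exact add_mem ha hb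
  | mul a b _ _ ha hb => rw [map_mul]; exact mul_mem ha hb

lemma commute_scalar {c : GL ι F} (hc : c ∈ scalars ι F) (x : GL ι F) : c * x = x * c := by
  obtain ⟨a, ha⟩ := (mem_scalars_iff c).1 hc
  apply Units.ext
  rw [Units.val_mul, Units.val_mul, ha, smul_mul_assoc, one_mul, mul_smul_comm, mul_one]

lemma mem_scalars_of_val {x : GL ι F} [Nonempty ι] {c : F} (h : (x : Matrix ι ι F) = c • 1) : x ∈ scalars ι F := by
  rcases eq_or_ne c 0 with rfl | hc
  · have := x.mul_inv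
    rw [h, zero_smul, zero_mul] at this
    exact absurd this zero_ne_one
  · exact (mem_scalars_iff x).2 ⟨Units.mk0 c hc, by simpa using h⟩

/-- a perfect group centralises whatever it centralises modulo scalars -/
lemma commute_of_perfect {R : Subgroup (GL ι F)} {g : GL ι F} (h : ∀ r ∈ R, g * r * g⁻¹ * r⁻¹ ∈ scalars ι F)
    {s : GL ι F} (hs : s ∈ ⁅R, R⁆) : g * s = s * g := by
  let Z : Subgroup (GL ι F) :=
    { carrier := {x | g * x = x * g}
      mul_mem' := fun {a b} ha hb => by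
        show g * (a * b) = a * b * g
        rw [← mul_assoc, ha, mul_assoc, hb, mul_assoc]
      one_mem' := by show g * 1 = 1 * g; simp
      inv_mem' := fun {a} ha => by
        show g * a⁻¹ = a⁻¹ * g
        rw [eq_inv_mul_iff_mul_eq, ← mul_assoc, ← ha, mul_inv_cancel_right] }
  refine (Subgroup.commutator_le.2 fun a ha b hb => ?_ : ⁅R, R⁆ ≤ Z) hs
  have ha' : g * a * g⁻¹ = g * a * g⁻¹ * a⁻¹ * a := by group
  have hb' : g * b * g⁻¹ = g * b * g⁻¹ * b⁻¹ * b := by group
  set α := g * a * g⁻¹ * a⁻¹ with hα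
  set β := g * b * g⁻¹ * b⁻¹ with hβ
  show g * ⁅a, b⁆ = ⁅a, b⁆ * g
  rw [← mul_inv_eq_iff_eq_mul]
  calc g * ⁅a, b⁆ * g⁻¹ = ⁅g * a * g⁻¹, g * b * g⁻¹⁆ := by
        simp only [commutatorElement_def]; group
    _ = α * a * (β * b) * (α * a)⁻¹ * (β * b)⁻¹ := by rw [ha', hb', commutatorElement_def]
    _ = ⁅a, b⁆ := by
        rw [commutatorElement_def, _root_.mul_inv_rev, _root_.mul_inv_rev]
        have e1 : ∀ x, α * x = x * α := commute_scalar (h a ha)
        have e2 : ∀ x, β * x = x * β := commute_scalar (h b hb)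
        calc α * a * (β * b) * (a⁻¹ * α⁻¹) * (b⁻¹ * β⁻¹)
            = α * (a * β) * b * a⁻¹ * (α⁻¹ * b⁻¹) * β⁻¹ := by group
          _ = α * (β * a) * b * a⁻¹ * (α⁻¹ * b⁻¹) * β⁻¹ := by rw [e2 a]
          _ = (α * (β * a * b * a⁻¹)) * α⁻¹ * b⁻¹ * β⁻¹ := by group
          _ = (β * a * b * a⁻¹ * α) * α⁻¹ * b⁻¹ * β⁻¹ := by rw [e1]
          _ = (β * (a * b * a⁻¹ * b⁻¹)) * β⁻¹ := by group
          _ = a * b * a⁻¹ * b⁻¹ := by rw [e2]; group

/-- automorphisms of a matrix algebra are inner -/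
theorem exists_inner {d : ℕ} (hd : 0 < d) {F : Type*} [Field F] (ψ : Matrix (Fin d) (Fin d) F →ₐ[F] Matrix (Fin d) (Fin d) F) :
    ∃ Q : GL (Fin d) F, ∀ x, ψ x = (Q : Matrix _ _ F) * x * ((Q⁻¹ : GL (Fin d) F) : Matrix _ _ F) := by
  obtain ⟨w, e, P, hw, hP⟩ := units_form hd ψ
  rw [Fintype.card_fin] at hw
  obtain rfl : w = 1 := Nat.eq_of_mul_eq_mul_left hd (hw.trans (mul_one d).symm)
  let σ : Fin d ≃ Fin d := e.trans (Equiv.prodUnique (Fin d) (Fin 1))
  let S : GL (Fin d) F :=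
    { val := (1 : Matrix (Fin d) (Fin d) F).submatrix σ id
      inv := (1 : Matrix (Fin d) (Fin d) F).submatrix id σ
      val_inv := by
        rw [show (id : Fin d → Fin d) = ⇑(Equiv.refl (Fin d)) from rfl, submatrix_mul_equiv, one_mul, submatrix_one_equiv]
      inv_val := by rw [submatrix_mul_equiv, one_mul, submatrix_one _ Function.injective_id] }
  refine ⟨P * S, fun x => ?_⟩
  rw [hP, _root_.mul_inv_rev, Units.val_mul, Units.val_mul]
  have : Matrix.reindex e.symm e.symm (x ⊗ₖ (1 : Matrix (Fin 1) (Fin 1) F)) =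
      (S : Matrix _ _ F) * x * ((S⁻¹ : GL (Fin d) F) : Matrix _ _ F) := by
    show _ = (1 : Matrix (Fin d) (Fin d) F).submatrix σ id * x * (1 : Matrix (Fin d) (Fin d) F).submatrix id σ
    apply Matrix.ext
    intro i j
    simp [Matrix.mul_apply, Matrix.one_apply, σ, Subsingleton.elim (e i).2 (e j).2]
  rw [this]
  simp [mul_assoc]

lemma dvd_of_units {d w : ℕ} (hd : 0 < d) {F : Type*} [Field F] (φ : Matrix (Fin d) (Fin d) F →ₐ[F] Matrix (Fin w) (Fin w) F) : d ∣ w := by
  obtain ⟨v, -, -, hv, -⟩ := units_form hd φ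
  exact ⟨v, by rw [hv, Fintype.card_fin]⟩

/-- the standard tensor algebra homomorphism -/
def kronHom (d w : ℕ) : Matrix (Fin w) (Fin w) F →ₐ[F] Matrix (Fin d × Fin w) (Fin d × Fin w) F :=
  AlgHom.ofLinearMap
    { toFun := fun B => (1 : Matrix (Fin d) (Fin d) F) ⊗ₖ B
      map_add' := fun a b => kronecker_add _ a b
      map_smul' := fun c a => kronecker_smul c _ a }
    (one_kronecker_one) (fun a b => by simp [← mul_kronecker_mul])

lemma kronHom_injective {d : ℕ} (hd : 0 < d) (w : ℕ) : Function.Injective (kronHom (F := F) d w) := by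
  intro a b hab
  ext i j
  have := congrFun₂ hab (⟨0, hd⟩, i) (⟨0, hd⟩, j)
  simpa [kronHom, Matrix.kroneckerMap_apply] using this

lemma dvd_of_kron_range {d w : ℕ} (hd : 0 < d)
    (χ : Matrix (Fin d) (Fin d) F →ₐ[F] Matrix (Fin d × Fin w) (Fin d × Fin w) F)
    (h : ∀ a, χ a ∈ (kronHom d w).range) : d ∣ w :=
  dvd_of_units hd ((AlgEquiv.ofInjective (kronHom d w) (kronHom_injective hd w)).symm.toAlgHom.comp
    (χ.codRestrict (kronHom d w).range h))

/-- the normaliser of a tensor factor fixes the tensor decomposition -/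
theorem normalizer_form {d : ℕ} (hd : 0 < d) {φ : Matrix (Fin d) (Fin d) F →ₐ[F] Matrix ι ι F} (hφ : Function.Injective φ)
    {w : ℕ} {e : ι ≃ Fin d × Fin w} {P : GL ι F}
    (hP : ∀ a, φ a = (P : Matrix ι ι F) * Matrix.reindex e.symm e.symm (a ⊗ₖ (1 : Matrix (Fin w) (Fin w) F)) *
        ((P⁻¹ : GL ι F) : Matrix ι ι F))
    (hw : 0 < w) (h : GL ι F) (hh : ∀ a ∈ φ.range, cjA h a ∈ φ.range) : h ∈ tensorProductSubgroup d w e P := by
  let ψ : Matrix (Fin d) (Fin d) F →ₐ[F] Matrix (Fin d) (Fin d) F :=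
    (AlgEquiv.ofInjective φ hφ).symm.toAlgHom.comp
      (((cjA h).toAlgHom.comp φ).codRestrict φ.range (fun x => hh _ ⟨x, rfl⟩))
  have hψ : ∀ x, φ (ψ x) = cjA h (φ x) := fun x =>
    congrArg Subtype.val ((AlgEquiv.ofInjective φ hφ).apply_symm_apply _)
  obtain ⟨Q, hQ⟩ := exists_inner hd ψ
  let R : Matrix (Fin d × Fin w) (Fin d × Fin w) F ≃ₐ[F] Matrix ι ι F := Matrix.reindexAlgEquiv F F e.symm
  let g : Matrix (Fin d × Fin w) (Fin d × Fin w) F :=
    R.symm (((P⁻¹ : GL ι F) : Matrix ι ι F) * (h : Matrix ι ι F) * (P : Matrix ι ι F))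
  have hg : ∀ x : Matrix (Fin d) (Fin d) F, g * (x ⊗ₖ 1) = (ψ x ⊗ₖ 1) * g := by
    intro x
    apply R.injective
    simp only [g, map_mul, AlgEquiv.apply_symm_apply]
    have := hψ x
    rw [cjA_apply, hP, hP] at this
    have h2 := congrArg (fun y => ((P⁻¹ : GL ι F) : Matrix ι ι F) * y * (h : Matrix ι ι F) * (P : Matrix ι ι F)) this
    simp only [mul_assoc, Units.inv_mul_cancel_left, Units.inv_mul, mul_one] at h2
    simp only [mul_assoc]
    exact h2.symm
  obtain ⟨B, hB⟩ := kron_commutant hd ((((Q⁻¹ : GL (Fin d) F) : Matrix _ _ F) ⊗ₖ (1 : Matrix (Fin w) (Fin w) F)) * g) (fun i j => by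
    rw [mul_assoc, hg, ← mul_assoc, ← mul_assoc, ← mul_kronecker_mul, ← mul_kronecker_mul, hQ]
    simp [mul_assoc])
  have hgB : g = (Q : Matrix _ _ F) ⊗ₖ B := by
    have := congrArg (((Q : Matrix _ _ F) ⊗ₖ (1 : Matrix (Fin w) (Fin w) F)) * ·) hB
    simp only [← mul_assoc, ← mul_kronecker_mul, Units.mul_inv, one_kronecker_one, one_mul, mul_one] at this
    exact this
  have hunit : IsUnit g :=
    (((Units.isUnit P⁻¹).mul (Units.isUnit h)).mul (Units.isUnit P)).map R.symm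
  have hBu : IsUnit B := by
    rw [Matrix.isUnit_iff_isUnit_det] at hunit ⊢
    rw [hgB, det_kronecker, Fintype.card_fin, Fintype.card_fin] at hunit
    exact (isUnit_pow_iff hd.ne').1 (isUnit_of_mul_isUnit_right hunit)
  refine ⟨glReindex e.symm hunit.unit, ⟨hunit.unit, ⟨Q, hBu.unit, hgB⟩, rfl⟩, Units.ext ?_⟩
  show (P : Matrix ι ι F) * R g * ((P⁻¹ : GL ι F) : Matrix ι ι F) = h
  simp only [g, AlgEquiv.apply_symm_apply]
  simp [mul_assoc]

lemma tensor_swap {d w : ℕ} (e : ι ≃ Fin d × Fin w) (P : GL ι F) {h : GL ι F} (hh : h ∈ tensorProductSubgroup d w e P) :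
    h ∈ tensorProductSubgroup w d (e.trans (Equiv.prodComm _ _)) P := by
  obtain ⟨x, ⟨g, ⟨a, b, hg⟩, rfl⟩, rfl⟩ := hh
  refine ⟨_, ⟨glReindex (Equiv.prodComm (Fin d) (Fin w)) g, ⟨b, a, ?_⟩, ?_⟩, rfl⟩
  · show Matrix.reindex _ _ (g : Matrix (Fin d × Fin w) (Fin d × Fin w) F) = _
    rw [hg]; ext i j; simp [Matrix.kroneckerMap_apply, mul_comm]
  · apply Units.ext; ext i j; rfl

/-- the geometric obstructions used in the analysis -/
structure NoGeo (m : ℕ) (H : Subgroup (GL ι F)) : Prop where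
  irred : ActsIrreducibly (matrixSet H)
  comm : ∀ A : Subalgebra F (Matrix ι ι F), Inv H A → (∀ x ∈ A, ∀ y ∈ A, x * y = y * x) → ∀ a ∈ A, ∃ c : F, a = c • 1
  tensor : ∀ (e : ι ≃ Fin 2 × Fin m) (P : GL ι F), ¬ H ≤ tensorProductSubgroup 2 m e P

/-- centre of a subalgebra -/
def centreAlg (A : Subalgebra F (Matrix ι ι F)) : Subalgebra F (Matrix ι ι F) :=
  A ⊓ Subalgebra.centralizer F (A : Set (Matrix ι ι F))

lemma mem_centreAlg {A : Subalgebra F (Matrix ι ι F)} {z : Matrix ι ι F} :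
    z ∈ centreAlg A ↔ z ∈ A ∧ ∀ a ∈ A, a * z = z * a := by
  simp [centreAlg, Algebra.mem_inf, Subalgebra.mem_centralizer_iff]

lemma inv_centre {H : Subgroup (GL ι F)} {A : Subalgebra F (Matrix ι ι F)} (hA : Inv H A) : Inv H (centreAlg A) := by
  intro h hh z hz
  rw [mem_centreAlg] at hz ⊢
  refine ⟨hA h hh z hz.1, fun a ha => ?_⟩
  have h1 := congrArg (cjA h) (hz.2 _ (hA h⁻¹ (inv_mem hh) a ha))
  rw [map_mul, map_mul, show cjA h (cjA h⁻¹ a) = a by simp [mul_assoc]] at h1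
  exact h1

section Finite

variable [Finite F] [Nonempty ι] {m : ℕ} {H : Subgroup (GL ι F)}

theorem scalar_or_top (hn : Fintype.card ι = 2 * m) (hm : m.Prime) (hodd : Odd m) (hG : NoGeo m H) {N : Subgroup (GL ι F)}
    (hN : ∀ g ∈ H, ∀ x ∈ N, g * x * g⁻¹ ∈ N) : N ≤ scalars ι F ∨ adj N = ⊤ := by
  classical
  have hA := inv_adj hN
  obtain ⟨d, φ, hd, hrange, hφ⟩ := matrix_form hG.irred hA fun z hz hzc =>
    hG.comm _ (inv_centre hA) (fun x hx y hy => ((mem_centreAlg.1 hx).2 y (mem_centreAlg.1 hy).1).symm) z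
      (mem_centreAlg.2 ⟨hz, fun a ha => (hzc a ha).symm⟩)
  obtain ⟨w, e, P, hdw, hP⟩ := units_form hd φ
  have hw : 0 < w := Nat.pos_of_ne_zero fun h => by subst h; rw [mul_zero] at hdw; exact Fintype.card_ne_zero hdw.symm
  have hH : H ≤ tensorProductSubgroup d w e P := fun h hh =>
    normalizer_form hd hφ hP hw h fun a ha => hrange ▸ hA h hh a (hrange ▸ ha)
  have hdvd : d ∣ 2 * m := ⟨w, by omega⟩
  have hcases : d = 1 ∨ d = m ∨ d = 2 ∨ d = 2 * m := by
    obtain ⟨d₁, d₂, h₁, h₂, hdd⟩ := (Nat.dvd_mul).1 hdvd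
    rcases (Nat.dvd_prime Nat.prime_two).1 h₁ with rfl | rfl <;> rcases (Nat.dvd_prime hm).1 h₂ with rfl | rfl <;> omega
  have hm2 := hm.two_le
  rcases hcases with rfl | rfl | rfl | rfl
  · left
    intro x hx
    have hx' : (x : Matrix ι ι F) ∈ φ.range := hrange ▸ mem_adj hx
    obtain ⟨a, ha⟩ := hx'
    have : a = a ⟨0, hd⟩ ⟨0, hd⟩ • 1 := by
      ext i j; obtain rfl : i = ⟨0, hd⟩ := Fin.ext (by omega); obtain rfl : j = ⟨0, hd⟩ := Fin.ext (by omega); simp
    refine mem_scalars_of_val (c := a ⟨0, hd⟩ ⟨0, hd⟩) ?_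
    rw [← ha]; change φ a = _
    conv_lhs => rw [this]
    rw [map_smul, map_one]
  · have hw2 : w = 2 := by
      rw [hn] at hdw; nlinarith
    subst hw2
    exact absurd (fun h hh => tensor_swap e P (hH hh)) (hG.tensor _ P)
  · have hw2 : w = m := by rw [hn] at hdw; omega
    subst hw2
    exact absurd hH (hG.tensor e P)
  · right
    rw [← hrange, eq_top_iff]
    have : Module.finrank F φ.range = Module.finrank F (Matrix ι ι F) := by
      rw [← (AlgEquiv.ofInjective φ hφ).toLinearEquiv.finrank_eq]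
      simp [Module.finrank_matrix, hn]
    rw [← Subalgebra.finrank_toSubmodule] at this
    exact (Algebra.toSubmodule_eq_top.1 (Submodule.eq_top_of_finrank_eq this)).ge

omit [Finite F] [Nonempty ι] in
lemma scalar_of_commute {N : Subgroup (GL ι F)} (htop : adj N = ⊤) {M : Matrix ι ι F} (h : ∀ x ∈ N, M * x = x * M) :
    ∃ c : F, M = c • 1 := by
  obtain ⟨c, hc⟩ : M ∈ Set.range (Matrix.scalar ι) := Matrix.mem_range_scalar_of_commute_single fun i j _ =>
    (commute_adj h _ (htop ▸ Algebra.mem_top)).symm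
  exact ⟨c, by rw [← hc]; simp [Matrix.smul_one_eq_diagonal]⟩

omit [Finite F] [Nonempty ι] in
lemma absIrred_of_top {N : Subgroup (GL ι F)} (htop : adj N = ⊤) : ActsAbsolutelyIrreducibly (matrixSet N) := by
  classical
  refine ⟨fun W hW => ?_, fun M hM => scalar_of_commute htop fun x hx => hM _ ⟨x, hx, rfl⟩⟩
  by_contra hc
  push Not at hc
  obtain ⟨x, hx, hx0⟩ := Submodule.exists_mem_ne_zero_of_ne_bot hc.1
  have hall : ∀ a ∈ adj N, ∀ v ∈ W, a *ᵥ v ∈ W := by
    intro a ha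
    induction ha using Algebra.adjoin_induction with
    | mem y hy => intro v hv; exact hW y hy ⟨v, hv, toLin'_apply _ _⟩
    | algebraMap c => intro v hv; rw [Algebra.algebraMap_eq_smul_one, smul_mulVec, one_mulVec]; exact W.smul_mem c hv
    | add a b _ _ ha hb => intro v hv; rw [add_mulVec]; exact W.add_mem (ha v hv) (hb v hv)
    | mul a b _ _ ha hb => intro v hv; rw [← mulVec_mulVec]; exact ha _ (hb v hv)
  obtain ⟨i, hi⟩ := Function.ne_iff.1 hx0
  refine hc.2 (eq_top_iff.2 fun y _ => ?_)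
  have h1 := hall (vecMulVec y (Pi.single i (x i)⁻¹)) (htop ▸ Algebra.mem_top) x hx
  rw [vecMulVec_mulVec, op_smul_eq_smul, single_dotProduct, inv_mul_cancel₀ hi, one_smul] at h1
  exact h1

/-- a group which is abelian modulo scalars cannot span in this dimension -/
theorem abelian_false (hn : Fintype.card ι = 2 * m) (hm : m.Prime) (hodd : Odd m) {N : Subgroup (GL ι F)}
    (hN : ∀ g ∈ H, ∀ x ∈ N, g * x * g⁻¹ ∈ N) (htop : adj N = ⊤)
    (hab : ∀ x ∈ N, ∀ y ∈ N, x * y * x⁻¹ * y⁻¹ ∈ scalars ι F)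
    (hmin : ∀ M : Subgroup (GL ι F), M ≤ N → (∀ g ∈ H, ∀ x ∈ M, g * x * g⁻¹ ∈ M) → ¬ M ≤ scalars ι F → M = N) :
    False := by
  classical
  have : Finite N := inferInstance
  let Z := (scalars ι F).subgroupOf N
  let ρ : N ⧸ Z → Matrix ι ι F := fun q => ((q.out : N) : GL ι F)
  have hcj : ∀ (x : N) (q : N ⧸ Z), ∃ c : F, ((x : GL ι F) : Matrix ι ι F) * ρ q * (((x : GL ι F)⁻¹ : GL ι F) : Matrix ι ι F) = c • ρ q := by
    intro x q
    obtain ⟨c, hc⟩ := (mem_scalars_iff _).1 (hab x x.2 q.out q.out.2)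
    refine ⟨c, ?_⟩
    have := congrArg (· * ρ q) hc
    simp only [ρ, Units.val_mul, smul_mul_assoc, one_mul, Units.inv_mul_cancel_right] at this
    exact this
  choose χ hχ using hcj
  have hsep : ∀ a b, (∀ x, χ x a = χ x b) → a = b := by
    intro a b hab'
    obtain ⟨c, hc⟩ := scalar_of_commute htop
      (M := (((a.out : GL ι F)⁻¹ * b.out : GL ι F) : Matrix ι ι F)) fun x hx => by
        have hne : χ ⟨x, hx⟩ a ≠ 0 := fun h0 => by
          have := hχ ⟨x, hx⟩ a
          rw [h0, zero_smul] at this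
          have hu : IsUnit (((x : GL ι F) : Matrix ι ι F) * ρ a * (((x : GL ι F)⁻¹ : GL ι F) : Matrix ι ι F)) :=
            ((Units.isUnit _).mul (Units.isUnit _)).mul (Units.isUnit _)
          rw [this] at hu
          exact not_isUnit_zero hu
        have ha := hχ ⟨x, hx⟩ a
        have hb := hχ ⟨x, hx⟩ b
        rw [← hab'] at hb
        have key : (x * a.out * x⁻¹ : GL ι F)⁻¹ * (x * b.out * x⁻¹) = (a.out : GL ι F)⁻¹ * b.out := by
          rw [inv_mul_eq_iff_eq_mul]
          apply Units.ext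
          simp only [Units.val_mul]
          simp only [ρ] at ha hb
          rw [ha, hb, smul_mul_assoc, Units.mul_inv_cancel_left]
        rw [show (x * a.out * x⁻¹ : GL ι F)⁻¹ * (x * b.out * x⁻¹) = x * ((a.out : GL ι F)⁻¹ * b.out) * x⁻¹ by group,
          mul_inv_eq_iff_eq_mul] at key
        simpa only [Units.val_mul, mul_assoc] using congrArg Units.val key.symm
    have := mem_scalars_of_val hc
    rw [← QuotientGroup.out_eq' a, ← QuotientGroup.out_eq' b]
    exact QuotientGroup.eq.2 (by simpa [Z, Subgroup.mem_subgroupOf] using this)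
  have hli : LinearIndependent F ρ := by
    rw [linearIndependent_iff']
    intro s
    induction s using Finset.induction with
    | empty => intro c _ i hi; simp at hi
    | @insert a s ha ih =>
      intro c hc
      rw [Finset.sum_insert ha] at hc
      have hs : ∀ q ∈ s, c q = 0 := by
        intro q hq
        obtain ⟨x, hx⟩ : ∃ x, χ x q ≠ χ x a := by
          by_contra hcon; push Not at hcon; exact ha (hsep q a hcon ▸ hq)
        have h1 := congrArg (fun y => ((x : GL ι F) : Matrix ι ι F) * y * (((x : GL ι F)⁻¹ : GL ι F) : Matrix ι ι F)) hc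
        simp only [mul_add, add_mul, Finset.mul_sum, Finset.sum_mul, mul_smul_comm, smul_mul_assoc, hχ, mul_zero, zero_mul] at h1
        have h2 := congrArg (χ x a • ·) hc
        simp only [smul_add, Finset.smul_sum, smul_zero] at h2
        have h3 : ∑ r ∈ s, (c r * (χ x r - χ x a)) • ρ r = 0 := by
          have e1 : c a • χ x a • ρ a = χ x a • c a • ρ a := smul_comm _ _ _
          rw [e1] at h1
          have := h1.trans h2.symm
          rw [add_right_inj] at this
          rw [Finset.sum_congr rfl (fun r _ => show (c r * (χ x r - χ x a)) • ρ r = c r • χ x r • ρ r - χ x a • c r • ρ r by module),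
            Finset.sum_sub_distrib, this, sub_self]
        exact (mul_eq_zero.1 (ih _ h3 q hq)).resolve_right (sub_ne_zero.2 hx)
      intro i hi
      rcases Finset.mem_insert.1 hi with rfl | hi
      · rw [Finset.sum_eq_zero (fun r hr => by rw [hs r hr, zero_smul]), add_zero, smul_eq_zero] at hc
        exact hc.resolve_right (fun h0 => by
          have hu := Units.isUnit ((i.out : N) : GL ι F)
          simp only [ρ] at h0; rw [h0] at hu; exact not_isUnit_zero hu)
      · exact hs i hi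
  have hsp : (⊤ : Submodule F (Matrix ι ι F)) ≤ Submodule.span F (Set.range ρ) := by
    rw [← Algebra.top_toSubmodule, ← htop, Algebra.adjoin_eq_span]
    refine Submodule.span_le.2 fun y hy => ?_
    have hy' : y ∈ matrixSet N := by
      induction hy using Submonoid.closure_induction with
      | mem y hy => exact hy
      | one => exact ⟨1, N.one_mem, rfl⟩
      | mul a b _ _ ha hb =>
        obtain ⟨x, hx, rfl⟩ := ha; obtain ⟨z, hz, rfl⟩ := hb
        exact ⟨x * z, N.mul_mem hx hz, rfl⟩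
    obtain ⟨x, hx, rfl⟩ := hy'
    have hmem : (QuotientGroup.mk (⟨x, hx⟩ : N) : N ⧸ Z).out⁻¹ * ⟨x, hx⟩ ∈ Z :=
      QuotientGroup.eq.1 (QuotientGroup.out_eq' _)
    obtain ⟨c, hc⟩ := (mem_scalars_iff _).1 (Subgroup.mem_subgroupOf.1 hmem)
    have e1 : (x : Matrix ι ι F) = (c : F) • ρ (QuotientGroup.mk (⟨x, hx⟩ : N)) := by
      have := congrArg (ρ (QuotientGroup.mk (⟨x, hx⟩ : N)) * ·) hc
      simp only [ρ, Subgroup.coe_mul, Subgroup.coe_inv, Units.val_mul, Units.mul_inv_cancel_left, mul_smul_comm, mul_one] at this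
      exact this
    show (x : Matrix ι ι F) ∈ Submodule.span F (Set.range ρ)
    rw [e1]
    exact Submodule.smul_mem _ _ (Submodule.subset_span ⟨_, rfl⟩)
  have : Fintype (N ⧸ Z) := Fintype.ofFinite _
  have hcard : Nat.card (N ⧸ Z) = 2 * m * (2 * m) := by
    have := (Module.finrank_eq_card_basis (Module.Basis.mk hli hsp)).symm
    rw [Module.finrank_matrix, hn, Module.finrank_self, mul_one] at this
    rw [Nat.card_eq_fintype_card]; exact this
  let N2 : Subgroup (GL ι F) :=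
    { carrier := {x | x ∈ N ∧ x * x ∈ scalars ι F}
      one_mem' := ⟨N.one_mem, by rw [mul_one]; exact Subgroup.one_mem _⟩
      mul_mem' := fun {x y} hx hy => ⟨N.mul_mem hx.1 hy.1, by
        have hc := hab y hy.1 x hx.1
        rw [show x * y * (x * y) = x * (y * x * y⁻¹ * x⁻¹) * x * (y * y) by group, ← commute_scalar hc,
          mul_assoc _ x x]
        exact mul_mem (mul_mem hc hx.2) hy.2⟩
      inv_mem' := fun {x} hx => ⟨N.inv_mem hx.1, by rw [← _root_.mul_inv_rev]; exact inv_mem hx.2⟩ }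
  haveI : Fact (Nat.Prime 2) := ⟨Nat.prime_two⟩
  haveI : Fact m.Prime := ⟨hm⟩
  obtain ⟨a, ha⟩ := exists_prime_orderOf_dvd_card' (G := N ⧸ Z) 2 (by rw [hcard]; exact ⟨m * (2 * m), by ring⟩)
  obtain ⟨b, hb⟩ := exists_prime_orderOf_dvd_card' (G := N ⧸ Z) m (by rw [hcard]; exact ⟨2 * (2 * m), by ring⟩)
  obtain ⟨x, rfl⟩ := QuotientGroup.mk_surjective a
  obtain ⟨y, rfl⟩ := QuotientGroup.mk_surjective b
  have h2 : ∀ z : N, (z : GL ι F) * z ∈ scalars ι F ↔ (QuotientGroup.mk z : N ⧸ Z) ^ 2 = 1 := fun z => by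
    rw [← QuotientGroup.mk_pow, QuotientGroup.eq_one_iff, Subgroup.mem_subgroupOf, pow_two]; rfl
  have hN2 : N2 = N := hmin N2 (fun z hz => hz.1) (fun g hg z hz => ⟨hN g hg z hz.1, by
      rw [show g * z * g⁻¹ * (g * z * g⁻¹) = g * (z * z) * g⁻¹ by group]
      exact scalars_normal.conj_mem _ hz.2 g⟩) (fun hle => by
    have hxN : (x : GL ι F) ∈ N2 := ⟨x.2, (h2 x).2 (ha ▸ pow_orderOf_eq_one _)⟩
    have : (QuotientGroup.mk x : N ⧸ Z) = 1 := (QuotientGroup.eq_one_iff _).2 (Subgroup.mem_subgroupOf.2 (hle hxN))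
    rw [this, orderOf_one] at ha; omega)
  have hy2 : (y : GL ι F) ∈ N2 := hN2.symm ▸ y.2
  have := Nat.le_of_dvd two_pos (orderOf_dvd_of_pow_eq_one ((h2 y).1 hy2.2))
  rw [hb] at this
  obtain ⟨k, hk⟩ := hodd
  have := hm.two_le
  omega

set_option maxHeartbeats 1000000 in
/-- the socle of a group in no geometric class -/
theorem exists_core (hn : Fintype.card ι = 2 * m) (hm : m.Prime) (hodd : Odd m) (hG : NoGeo m H)
    (hH : ¬ H ≤ scalars ι F) :
    ∃ P : Subgroup (GL ι F), P ≤ H ∧ (∀ h ∈ H, ∀ x ∈ P, h * x * h⁻¹ ∈ P) ∧ ⁅P, P⁆ = P ∧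
      IsSimpleGroup (P ⧸ (scalars ι F).subgroupOf P) ∧ ¬ IsMulCommutative (P ⧸ (scalars ι F).subgroupOf P) ∧
      adj P = ⊤ ∧ (∀ h ∈ H, (∀ x ∈ P, h * x * h⁻¹ * x⁻¹ ∈ scalars ι F) → h ∈ scalars ι F) := by
  classical
  set Sc := scalars ι F
  obtain ⟨P, hPmem, hPmin⟩ := Set.exists_min_image
    {N : Subgroup (GL ι F) | N ≤ H ∧ (∀ g ∈ H, ∀ x ∈ N, g * x * g⁻¹ ∈ N) ∧ ¬ N ≤ Sc} (fun N => Nat.card N)
    (Set.toFinite _) ⟨H, le_rfl, fun g hg x hx => mul_mem (mul_mem hg hx) (inv_mem hg), hH⟩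
  obtain ⟨hPH, hPn, hPsc⟩ := hPmem
  have hmin : ∀ M : Subgroup (GL ι F), M ≤ P → (∀ g ∈ H, ∀ x ∈ M, g * x * g⁻¹ ∈ M) → ¬ M ≤ Sc → M = P :=
    fun M hM hMn hMs => Subgroup.eq_of_le_of_card_ge hM (hPmin M ⟨hM.trans hPH, hMn, hMs⟩)
  have htop : adj P = ⊤ := (scalar_or_top hn hm hodd hG hPn).resolve_left hPsc
  have hnab : ¬ ∀ x ∈ P, ∀ y ∈ P, x * y * x⁻¹ * y⁻¹ ∈ Sc := fun hab => abelian_false hn hm hodd hPn htop hab hmin
  have conj_comm : ∀ (R : Subgroup (GL ι F)), (∀ g ∈ H, ∀ x ∈ R, g * x * g⁻¹ ∈ R) →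
      ∀ g ∈ H, ∀ x ∈ ⁅R, R⁆, g * x * g⁻¹ ∈ ⁅R, R⁆ := by
    intro R hR g hg
    have : (⁅R, R⁆).map (MulAut.conj g).toMonoidHom ≤ ⁅R, R⁆ := by
      rw [Subgroup.map_commutator]
      refine Subgroup.commutator_mono ?_ ?_ <;> rintro _ ⟨x, hx, rfl⟩ <;> exact hR g hg x hx
    exact fun x hx => this ⟨x, hx, rfl⟩
  have hperf : ⁅P, P⁆ = P := hmin _ (Subgroup.commutator_le.2 fun a ha b hb =>
    mul_mem (mul_mem (mul_mem ha hb) (inv_mem ha)) (inv_mem hb)) (conj_comm P hPn)
    fun hle => hnab fun x hx y hy => hle (Subgroup.commutator_mem_commutator hx hy)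
  have hcomm : ∀ g : GL ι F, (∀ x ∈ P, g * x * g⁻¹ * x⁻¹ ∈ Sc) → g ∈ Sc := by
    intro g hg
    obtain ⟨c, hc⟩ := scalar_of_commute htop (M := (g : Matrix ι ι F)) fun x hx =>
      congrArg Units.val (commute_of_perfect hg (hperf.symm ▸ hx))
    exact mem_scalars_of_val hc
  -- minimal normal subgroups of the socle above the scalars
  obtain ⟨R, hRmem, hRmin⟩ := Set.exists_min_image
    {N : Subgroup (GL ι F) | N ≤ P ∧ P ⊓ Sc ≤ N ∧ (∀ g ∈ P, ∀ x ∈ N, g * x * g⁻¹ ∈ N) ∧ ¬ N ≤ Sc} (fun N => Nat.card N)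
    (Set.toFinite _) ⟨P, le_rfl, inf_le_left, fun g hg x hx => mul_mem (mul_mem hg hx) (inv_mem hg), hPsc⟩
  obtain ⟨hRP, hZR, hRn, hRsc⟩ := hRmem
  have hcjmem : ∀ (h : GL ι F) (x : GL ι F), x ∈ R.map (MulAut.conj h).toMonoidHom ↔ h⁻¹ * x * h ∈ R := by
    intro h x
    constructor
    · rintro ⟨y, hy, rfl⟩
      have : h⁻¹ * (MulAut.conj h y) * h = y := by simp [mul_assoc]
      exact this.symm ▸ hy
    · intro hx; exact ⟨_, hx, by simp [mul_assoc]⟩
  have hother : ∀ h ∈ H, R.map (MulAut.conj h).toMonoidHom ≠ R → ∀ a ∈ R.map (MulAut.conj h).toMonoidHom, ∀ b ∈ R,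
      a * b * a⁻¹ * b⁻¹ ∈ Sc := by
    intro h hh hne a ha b hb
    set R' := R.map (MulAut.conj h).toMonoidHom with hR'
    have hR'P : R' ≤ P := by rintro _ ⟨y, hy, rfl⟩; exact hPn h hh y (hRP hy)
    have hR'n : ∀ g ∈ P, ∀ x ∈ R', g * x * g⁻¹ ∈ R' := by
      intro g hg x hx
      rw [hR', hcjmem] at hx ⊢
      have := hRn _ (by simpa using hPn h⁻¹ (inv_mem hh) g hg) _ hx
      simpa [mul_assoc] using this
    have hint : R' ⊓ R ≤ Sc := by
      by_contra hnot
      have h1 : R' ⊓ R = R := Subgroup.eq_of_le_of_card_ge inf_le_right (hRmin _ ⟨inf_le_right.trans hRP,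
        le_inf (fun x hx => by
          rw [hR', hcjmem]
          refine hZR ⟨by simpa using hPn h⁻¹ (inv_mem hh) x hx.1, ?_⟩
          simpa using scalars_normal.conj_mem x hx.2 h⁻¹) hZR,
        fun g hg x hx => ⟨hR'n g hg x hx.1, hRn g hg x hx.2⟩, hnot⟩)
      refine hne (Subgroup.eq_of_le_of_card_ge (inf_eq_right.1 h1) ?_).symm
      exact (Subgroup.card_map_of_injective (MulAut.conj h).injective).le
    refine hint (Subgroup.mem_inf.2 ⟨?_, ?_⟩)
    · rw [show a * b * a⁻¹ * b⁻¹ = a * (b * a⁻¹ * b⁻¹) by group]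
      exact mul_mem ha (hR'n b (hRP hb) _ (inv_mem ha))
    · exact mul_mem (hRn a (hR'P ha) b hb) (inv_mem hb)
  have hRnab : ¬ ∀ a ∈ R, ∀ b ∈ R, a * b * a⁻¹ * b⁻¹ ∈ Sc := by
    intro hab
    -- all conjugates commute modulo scalars
    have hall : ∀ h ∈ H, ∀ k ∈ H, ∀ a ∈ R, ∀ b ∈ R,
        h * a * h⁻¹ * (k * b * k⁻¹) * (h * a * h⁻¹)⁻¹ * (k * b * k⁻¹)⁻¹ ∈ Sc := by
      intro h hh k hk a ha b hb
      have key : k⁻¹ * h * a * (k⁻¹ * h)⁻¹ * b * (k⁻¹ * h * a * (k⁻¹ * h)⁻¹)⁻¹ * b⁻¹ ∈ Sc := by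
        by_cases he : R.map (MulAut.conj (k⁻¹ * h)).toMonoidHom = R
        · exact hab _ (he ▸ ⟨a, ha, rfl⟩) b hb
        · exact hother _ (mul_mem (inv_mem hk) hh) he _ ⟨a, ha, rfl⟩ b hb
      have := scalars_normal.conj_mem _ key k
      convert this using 1
      group
    let S : Set (GL ι F) := {x | ∃ h ∈ H, ∃ a ∈ R, x = h * a * h⁻¹}
    have hgen : Subgroup.closure S = P := by
      refine hmin _ ((Subgroup.closure_le _).2 ?_) (fun g hg x hx => ?_) fun hle => hRsc fun a ha => hle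
        (Subgroup.subset_closure ⟨1, one_mem _, a, ha, by simp⟩)
      · rintro _ ⟨h, hh, a, ha, rfl⟩; exact hPn h hh a (hRP ha)
      · have : (Subgroup.closure S).map (MulAut.conj g).toMonoidHom ≤ Subgroup.closure S := by
          rw [MonoidHom.map_closure, Subgroup.closure_le]
          rintro _ ⟨_, ⟨h, hh, a, ha, rfl⟩, rfl⟩
          exact Subgroup.subset_closure ⟨g * h, mul_mem hg hh, a, ha, by simp [mul_assoc]⟩
        exact this ⟨x, hx, rfl⟩
    apply hPsc
    intro x hx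
    have hq : ∀ u ∈ S, ∀ v ∈ S, Commute (QuotientGroup.mk' Sc u) (QuotientGroup.mk' Sc v) := by
      rintro _ ⟨h, hh, a, ha, rfl⟩ _ ⟨k, hk, b, hb, rfl⟩
      rw [Commute, SemiconjBy, ← commutatorElement_eq_one_iff_mul_comm, ← map_commutatorElement]
      exact (QuotientGroup.eq_one_iff _).2 (hall h hh k hk a ha b hb)
    rw [← hperf] at hx
    refine (Subgroup.commutator_le.2 fun u hu v hv => ?_ : ⁅P, P⁆ ≤ Sc) hx
    rw [← QuotientGroup.eq_one_iff, ← QuotientGroup.mk'_apply, map_commutatorElement, commutatorElement_eq_one_iff_mul_comm]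
    rw [← hgen] at hu hv
    induction hu, hv using Subgroup.closure_induction₂ with
    | mem u v hu hv => exact hq u hu v hv
    | one_left v _ => simp
    | one_right u _ => simp
    | mul_left u u' v _ _ _ h1 h2 => rw [map_mul]; exact (Commute.mul_left h1 h2).eq
    | mul_right u v v' _ _ _ h1 h2 => rw [map_mul]; exact (Commute.mul_right h1 h2).eq
    | inv_left u v _ _ h1 => rw [map_inv]; exact (Commute.inv_left h1).eq
    | inv_right u v _ _ h1 => rw [map_inv]; exact (Commute.inv_right h1).eq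
  set S := ⁅R, R⁆ with hS
  have hSP : S ≤ P := (Subgroup.commutator_mono hRP hRP).trans hperf.le
  have hSsc : ¬ S ≤ Sc := fun hle => hRnab fun a ha b hb => hle (Subgroup.commutator_mem_commutator ha hb)
  have hSn : ∀ g ∈ P, ∀ x ∈ S, g * x * g⁻¹ ∈ S := by
    intro g hg
    have : S.map (MulAut.conj g).toMonoidHom ≤ S := by
      rw [hS, Subgroup.map_commutator]
      refine Subgroup.commutator_mono ?_ ?_ <;> rintro _ ⟨x, hx, rfl⟩ <;> exact hRn g hg x hx
    exact fun x hx => this ⟨x, hx, rfl⟩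
  have hfix : ∀ h ∈ H, R.map (MulAut.conj h).toMonoidHom = R := by
    by_contra hcon
    push Not at hcon
    obtain ⟨h, hh, hne⟩ := hcon
    -- the other conjugate centralises
    have hcen : ∀ h ∈ H, R.map (MulAut.conj h).toMonoidHom ≠ R → ∀ s ∈ S,
        ∀ a ∈ R.map (MulAut.conj h).toMonoidHom, a * s = s * a :=
      fun h hh hne s hs a ha => commute_of_perfect (fun r hr => hother h hh hne a ha r hr) hs
    let gen : Set (GL ι F) := {x | ∃ k ∈ H, ∃ s ∈ S, x = k * s * k⁻¹}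
    have hgen : Subgroup.closure gen = P := by
      refine hmin _ ((Subgroup.closure_le _).2 ?_) (fun g hg x hx => ?_) fun hle => hSsc fun s hs => hle
        (Subgroup.subset_closure ⟨1, one_mem _, s, hs, by simp⟩)
      · rintro _ ⟨k, hk, a, ha, rfl⟩; exact hPn k hk a (hSP ha)
      · have : (Subgroup.closure gen).map (MulAut.conj g).toMonoidHom ≤ Subgroup.closure gen := by
          rw [MonoidHom.map_closure, Subgroup.closure_le]
          rintro _ ⟨_, ⟨k, hk, a, ha, rfl⟩, rfl⟩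
          exact Subgroup.subset_closure ⟨g * k, mul_mem hg hk, a, ha, by simp [mul_assoc]⟩
        exact this ⟨x, hx, rfl⟩
    have hSR : S ≤ R := Subgroup.commutator_le.2 fun a ha b hb =>
      mul_mem (mul_mem (mul_mem ha hb) (inv_mem ha)) (inv_mem hb)
    have hA := inv_adj hSn
    obtain ⟨d, φ, hd, hrange, hφ⟩ := matrix_form (absIrred_of_top htop).1 hA fun z hz hzc => by
      refine scalar_of_commute htop fun x hx => ?_
      rw [← hgen] at hx
      let C : Subgroup (GL ι F) :=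
        { carrier := {x | z * (x : Matrix ι ι F) = (x : Matrix ι ι F) * z}
          one_mem' := by simp
          mul_mem' := fun {a b} ha hb => by
            simp only [Set.mem_ofPred_eq, Units.val_mul] at *
            rw [← mul_assoc, ha, mul_assoc, hb, mul_assoc]
          inv_mem' := fun {a} ha => by
            simp only [Set.mem_ofPred_eq] at *
            rw [Units.eq_inv_mul_iff_mul_eq, ← mul_assoc, ← ha, Units.mul_inv_cancel_right] }
      refine (Subgroup.closure_le C).2 ?_ hx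
      rintro _ ⟨k, hk, s, hs, rfl⟩
      by_cases he : R.map (MulAut.conj k).toMonoidHom = R
      · have he' : S.map (MulAut.conj k).toMonoidHom = S := by rw [hS, Subgroup.map_commutator, he]
        exact hzc _ (mem_adj (he' ▸ ⟨s, hs, rfl⟩ : k * s * k⁻¹ ∈ S))
      · refine (commute_adj (N := S) (fun t ht => ?_) z hz).symm
        exact congrArg Units.val (hcen k hk he t ht _ ⟨s, hSR hs, rfl⟩)
    obtain ⟨w, e, Q, hdw, hQ⟩ := units_form hd φ
    have hd2 : 2 ≤ d := by
      by_contra hlt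
      refine hSsc fun x hx => ?_
      have hx' : (x : Matrix ι ι F) ∈ φ.range := hrange ▸ mem_adj hx
      obtain ⟨a, ha⟩ := hx'
      have : a = a ⟨0, hd⟩ ⟨0, hd⟩ • 1 := by
        ext i j; obtain rfl : i = ⟨0, hd⟩ := Fin.ext (by omega); obtain rfl : j = ⟨0, hd⟩ := Fin.ext (by omega); simp
      refine mem_scalars_of_val (c := a ⟨0, hd⟩ ⟨0, hd⟩) ?_
      rw [← ha]; change φ a = _
      conv_lhs => rw [this]
      rw [map_smul, map_one]
    -- the conjugate algebra lies in the commutant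
    let Rr : Matrix (Fin d × Fin w) (Fin d × Fin w) F ≃ₐ[F] Matrix ι ι F :=
      (Matrix.reindexAlgEquiv F F e.symm).trans (cjA Q)
    have hQ' : ∀ a, φ a = Rr (a ⊗ₖ 1) := fun a => by rw [hQ]; rfl
    have hw : 0 < w := Nat.pos_of_ne_zero fun h => by subst h; rw [mul_zero] at hdw; exact Fintype.card_ne_zero hdw.symm
    have hrS : ∀ a : Matrix (Fin d) (Fin d) F, Rr.symm (cjA h (φ a)) ∈ (kronHom d w).range := by
      intro a
      obtain ⟨B, hB⟩ := kron_commutant hd (Rr.symm (cjA h (φ a))) fun i j => by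
        apply Rr.injective
        rw [map_mul, map_mul, AlgEquiv.apply_symm_apply, ← hQ']
        refine commute_adj (N := S) (M := cjA h (φ a)) (fun x hx => ?_) _ (hrange ▸ ⟨Matrix.single i j 1, rfl⟩)
        have ha : φ a ∈ adj S := hrange ▸ ⟨a, rfl⟩
        have h1 := commute_adj (N := S) (M := ((h⁻¹ * x * h : GL ι F) : Matrix ι ι F)) (fun y hy => by
          have := congrArg (fun u => h⁻¹ * u * h) (hcen h hh hne x hx _ ⟨y, hSR hy, rfl⟩).symm
          simpa [mul_assoc] using congrArg Units.val this) _ ha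
        have h2 := congrArg (cjA h) h1
        rw [map_mul, map_mul, show cjA h ((h⁻¹ * x * h : GL ι F) : Matrix ι ι F) = x by simp [mul_assoc]] at h2
        exact h2.symm
      exact ⟨B, hB.symm⟩
    have hdvd : d ∣ w := dvd_of_kron_range hd (Rr.symm.toAlgHom.comp ((cjA h).toAlgHom.comp φ)) hrS
    obtain ⟨r, hr⟩ := hdvd
    rw [hn, hr] at hdw
    have hdd : d * d ∣ 2 * m := ⟨r, by rw [← hdw]; ring⟩
    rcases (Nat.coprime_or_dvd_of_prime hm d) with hc | hc
    · have : d * d ∣ 2 := (Nat.Coprime.mul_left hc.symm hc.symm).dvd_of_dvd_mul_right hdd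
      have := Nat.le_of_dvd two_pos this
      nlinarith
    · have h4 : m * m ∣ 2 * m := (mul_dvd_mul hc hc).trans hdd
      have := Nat.le_of_dvd two_pos (Nat.dvd_of_mul_dvd_mul_right hm.pos h4)
      have := hm.two_le
      obtain ⟨k, hk⟩ := hodd
      omega
  have hRP' : R = P := hmin R hRP (fun g hg x hx => (hfix g hg) ▸ ⟨x, hx, rfl⟩) hRsc
  subst hRP'
  refine ⟨R, hPH, hPn, hperf, ?_, ?_, htop, fun h _ hh => hcomm h hh⟩
  · have hnt : Nontrivial (R ⧸ Sc.subgroupOf R) := by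
      refine QuotientGroup.nontrivial_iff.2 fun hc => hRsc ?_
      exact Subgroup.subgroupOf_eq_top.1 hc
    refine IsSimpleGroup.mk fun U hU => ?_
    set V : Subgroup (GL ι F) := (U.comap (QuotientGroup.mk' (Sc.subgroupOf R))).map R.subtype with hV
    have hUn : (U.comap (QuotientGroup.mk' (Sc.subgroupOf R))).Normal := hU.comap _
    have hVn : ∀ g ∈ R, ∀ x ∈ V, g * x * g⁻¹ ∈ V := by
      intro g hg x hx
      obtain ⟨y, hy, rfl⟩ := Subgroup.mem_map.1 hx
      refine Subgroup.mem_map.2 ⟨(⟨g, hg⟩ : R) * y * (⟨g, hg⟩ : R)⁻¹, hUn.conj_mem y hy (⟨g, hg⟩ : R), ?_⟩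
      simp only [map_mul, map_inv, Subgroup.coe_subtype]
    by_cases hVs : V ≤ Sc
    · left
      rw [eq_bot_iff]
      intro u hu
      obtain ⟨x, rfl⟩ := QuotientGroup.mk'_surjective _ u
      exact (QuotientGroup.eq_one_iff _).2 (Subgroup.mem_subgroupOf.2 (hVs ⟨x, hu, rfl⟩))
    · right
      have hVR : V = R := Subgroup.eq_of_le_of_card_ge (Subgroup.map_subtype_le _) (hRmin V
        ⟨Subgroup.map_subtype_le _, fun x hx => ⟨⟨x, hx.1⟩, by
          show QuotientGroup.mk' _ _ ∈ U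
          rw [QuotientGroup.mk'_apply, (QuotientGroup.eq_one_iff _).2 (Subgroup.mem_subgroupOf.2 hx.2)]
          exact U.one_mem, rfl⟩, hVn, hVs⟩)
      rw [eq_top_iff]
      intro u _
      obtain ⟨x, rfl⟩ := QuotientGroup.mk'_surjective _ u
      obtain ⟨y, hy, hyx⟩ := (hVR.symm ▸ x.2 : (x : GL ι F) ∈ V)
      rwa [show y = x from Subtype.ext hyx] at hy
  · intro hc
    refine hRnab fun a ha b hb => ?_
    have := hc.is_comm.comm (QuotientGroup.mk' (Sc.subgroupOf R) ⟨a, ha⟩) (QuotientGroup.mk' _ ⟨b, hb⟩)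
    rw [← commutatorElement_eq_one_iff_mul_comm, ← map_commutatorElement, QuotientGroup.mk'_apply,
      QuotientGroup.eq_one_iff] at this
    exact Subgroup.mem_subgroupOf.1 this

end Finite

end Cfsg.Agent.Lib.SLTwoPrime
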