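import Cfsg.Prelude.Def_GeometricClasses

/-! Subalgebras of the matrix algebra normalised by an irreducible group. -/

set_option autoImplicit false

namespace Cfsg.Agent.Lib.SLTwoPrime

open Cfsg.Geo Matrix
open scoped MatrixGroups Kronecker

variable {ι : Type} [Fintype ι] [DecidableEq ι] {F : Type*} [Field F]

/-- conjugation of matrices by an invertible matrix -/
def cjA (g : GL ι F) : Matrix ι ι F ≃ₐ[F] Matrix ι ι F :=
  AlgEquiv.ofAlgHom
    (AlgHom.ofLinearMap ((LinearMap.mulRight F ((g⁻¹ : GL ι F) : Matrix ι ι F)).comp (LinearMap.mulLeft F (g : Matrix ι ι F)))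
      (by simp) (by intro x y; simp [mul_assoc]))
    (AlgHom.ofLinearMap ((LinearMap.mulRight F (g : Matrix ι ι F)).comp (LinearMap.mulLeft F ((g⁻¹ : GL ι F) : Matrix ι ι F)))
      (by simp) (by intro x y; simp [mul_assoc]))
    (by ext x; simp [mul_assoc])
    (by ext x; simp [mul_assoc])

@[simp] lemma cjA_apply (g : GL ι F) (x : Matrix ι ι F) :
    cjA g x = (g : Matrix ι ι F) * x * ((g⁻¹ : GL ι F) : Matrix ι ι F) := rfl

/-- `A` is normalised by `H` -/
def Inv (H : Subgroup (GL ι F)) (A : Subalgebra F (Matrix ι ι F)) : Prop :=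
  ∀ h ∈ H, ∀ a ∈ A, cjA h a ∈ A

/-- an invariant subspace of an irreducible group is trivial -/
lemma eq_bot_or_top {H : Subgroup (GL ι F)} (hirr : ActsIrreducibly (matrixSet H)) (W : Submodule F (ι → F))
    (h : ∀ g ∈ H, ∀ v ∈ W, (g : Matrix ι ι F) *ᵥ v ∈ W) : W = ⊥ ∨ W = ⊤ := by
  refine hirr W ?_
  rintro _ ⟨g, hg, rfl⟩ _ ⟨v, hv, rfl⟩
  rw [toLin'_apply]
  exact h g hg v hv

/-- a stable nilpotent ideal vanishes -/
theorem ideal_eq_bot {H : Subgroup (GL ι F)} (hirr : ActsIrreducibly (matrixSet H)) {A : Subalgebra F (Matrix ι ι F)}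
    (hA : Inv H A) (J : Ideal A) (hJ : IsNilpotent J)
    (hst : ∀ h, ∀ hh : h ∈ H, ∀ a : A, a ∈ J → (⟨cjA h (a : Matrix ι ι F), hA h hh a a.2⟩ : A) ∈ J) : J = ⊥ := by
  classical
  by_contra hne
  obtain ⟨k₀, hk₀, hk₀0⟩ := Submodule.exists_mem_ne_zero_of_ne_bot hne
  have hex : ∃ m, J ^ m = ⊥ := hJ
  have hm := Nat.find_spec hex
  set m := Nat.find hex
  have h2 : 2 ≤ m := by
    by_contra hc
    have hm1 : m = 0 ∨ m = 1 := by omega
    rcases hm1 with h0 | h0 <;> rw [h0] at hm
    · rw [Submodule.pow_zero, Ideal.one_eq_top] at hm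
      exact hne (eq_bot_iff.2 (hm ▸ le_top))
    · rw [Submodule.pow_one] at hm; exact hne hm
  obtain ⟨x, hx, hx0⟩ := Submodule.exists_mem_ne_zero_of_ne_bot (Nat.find_min hex (show m - 1 < m by omega))
  obtain ⟨v, hv⟩ : ∃ v, (x : Matrix ι ι F) *ᵥ v ≠ 0 := by
    by_contra hc; push Not at hc
    exact hx0 (Subtype.ext (Matrix.ext_iff_mulVec.2 fun v => by simp [hc v]))
  let W : Submodule F (ι → F) :=
    { carrier := {w | ∀ k ∈ J, (k : Matrix ι ι F) *ᵥ w = 0}
      add_mem' := fun ha hb k hk => by rw [mulVec_add, ha k hk, hb k hk, add_zero]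
      zero_mem' := fun k _ => mulVec_zero _
      smul_mem' := fun c a ha k hk => by rw [mulVec_smul, ha k hk, smul_zero] }
  have hxW : (x : Matrix ι ι F) *ᵥ v ∈ W := by
    intro k hk
    have h0 : k * x ∈ J ^ m := by
      have : k * x ∈ J * J ^ (m - 1) := Ideal.mul_mem_mul hk hx
      rwa [← Submodule.pow_succ' _ (by omega), show m - 1 + 1 = m by omega] at this
    rw [hm, Submodule.mem_bot] at h0
    rw [mulVec_mulVec, ← Subalgebra.coe_mul, h0, Subalgebra.coe_zero, zero_mulVec]
  rcases eq_bot_or_top hirr W (fun g hg w hw k hk => by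
    have h1 := hw _ (hst g⁻¹ (inv_mem hg) k hk)
    simp only [cjA_apply, inv_inv, ← mulVec_mulVec] at h1
    have h2 := congrArg ((g : Matrix ι ι F) *ᵥ ·) h1
    simpa [mulVec_mulVec, ← mul_assoc] using h2) with hW | hW
  · exact hv (by simpa [hW] using hxW)
  · refine hk₀0 (Subtype.ext (Matrix.ext_iff_mulVec.2 fun w => ?_))
    have : w ∈ W := hW ▸ Submodule.mem_top
    simpa using this k₀ hk₀

/-- an algebra homomorphism from a matrix algebra is the standard one up to a change of basis -/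
theorem units_form {d : ℕ} (hd : 0 < d) (φ : Matrix (Fin d) (Fin d) F →ₐ[F] Matrix ι ι F) :
    ∃ (w : ℕ) (e : ι ≃ Fin d × Fin w) (P : GL ι F), d * w = Fintype.card ι ∧
      ∀ a, φ a = (P : Matrix ι ι F) * Matrix.reindex e.symm e.symm (a ⊗ₖ (1 : Matrix (Fin w) (Fin w) F)) *
        ((P⁻¹ : GL ι F) : Matrix ι ι F) := by
  classical
  let z : Fin d := ⟨0, hd⟩
  let E : Fin d → Fin d → Matrix ι ι F := fun i j => φ (Matrix.single i j 1)
  have hE : ∀ i j k, E i j * E j k = E i k := fun i j k => by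
    simp only [E]; rw [← map_mul, Matrix.single_mul_single_same, one_mul]
  have hE0 : ∀ i j k l, j ≠ k → E i j * E k l = 0 := fun i j k l h => by
    simp only [E]; rw [← map_mul, Matrix.single_mul_single_of_ne (h := h), map_zero]
  let W := LinearMap.range (E z z).toLin'
  let bw := Module.finBasis F W
  set w := Module.finrank F W
  have hW : ∀ u ∈ W, E z z *ᵥ u = u := by
    rintro _ ⟨u, rfl⟩
    rw [toLin'_apply, mulVec_mulVec, hE]
  let v : Fin d × Fin w → (ι → F) := fun p => E p.1 z *ᵥ (bw p.2 : ι → F)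
  have hli : LinearIndependent F v := by
    rw [Fintype.linearIndependent_iff]
    intro c hc p
    have h1 : ∑ l, c (p.1, l) • (bw l : ι → F) = 0 := by
      have := congrArg (E z p.1 *ᵥ ·) hc
      simp only [mulVec_sum, mulVec_smul, mulVec_zero, v, mulVec_mulVec] at this
      rw [Fintype.sum_prod_type, Finset.sum_eq_single p.1 (fun i _ hi => ?_) (by simp)] at this
      · refine (Eq.symm ?_).trans this
        exact Finset.sum_congr rfl fun l _ => by rw [hE, hW _ (bw l).2]
      · simp [hE0 _ _ _ _ hi.symm]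
    have h2 : ∑ l, c (p.1, l) • bw l = 0 := Subtype.ext (by simpa using h1)
    exact Fintype.linearIndependent_iff.1 bw.linearIndependent _ h2 p.2
  have hsum : ∑ i, E i i = 1 := by
    simp only [E]
    rw [← map_sum, ← map_one φ]
    congr 1
    ext r s
    simp [Matrix.sum_apply, Matrix.single_apply, Matrix.one_apply, ite_and]
  have hsp : ⊤ ≤ Submodule.span F (Set.range v) := by
    intro x _
    have hx : x = ∑ i, E i z *ᵥ (E z i *ᵥ x) := by
      conv_lhs => rw [← one_mulVec x, ← hsum, sum_mulVec]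
      exact Finset.sum_congr rfl fun i _ => by rw [mulVec_mulVec, hE]
    rw [hx]
    refine Submodule.sum_mem _ fun i _ => ?_
    have hmem : E z i *ᵥ x ∈ W := ⟨E z i *ᵥ x, by rw [toLin'_apply, mulVec_mulVec, hE]⟩
    have hr := bw.sum_repr ⟨_, hmem⟩
    have hr' : E z i *ᵥ x = ∑ l, bw.repr ⟨_, hmem⟩ l • (bw l : ι → F) :=
      (congrArg Subtype.val hr).symm.trans (by rw [Submodule.coe_sum]; rfl)
    rw [hr', mulVec_sum]
    refine Submodule.sum_mem _ fun l _ => ?_
    rw [mulVec_smul]
    exact Submodule.smul_mem _ _ (Submodule.subset_span ⟨(i, l), rfl⟩)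
  let b := Module.Basis.mk hli hsp
  have hcard : d * w = Fintype.card ι := by
    have := Module.finrank_eq_card_basis b
    simp at this
    omega
  let e : ι ≃ Fin d × Fin w := Fintype.equivOfCardEq (by simp [hcard])
  let Pm : Matrix ι ι F := Matrix.of fun r c => v (e c) r
  have hP : IsUnit Pm := by
    rw [← Matrix.linearIndependent_cols_iff_isUnit]
    exact hli.comp e e.injective
  refine ⟨w, e, hP.unit, hcard, fun a => ?_⟩
  rw [Units.eq_mul_inv_iff_mul_eq, IsUnit.unit_spec]
  apply Matrix.ext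
  intro r c
  have hav : φ a *ᵥ v (e c) = ∑ i, a i (e c).1 • v (i, (e c).2) := by
    simp only [v, mulVec_mulVec, E]
    rw [← map_mul]
    have : a * Matrix.single (e c).1 z 1 = ∑ i, a i (e c).1 • Matrix.single i z 1 := by
      ext i j
      simp [Matrix.mul_apply, Matrix.single_apply, Finset.sum_ite_eq, Matrix.sum_apply]
      by_cases hj : z = j <;> simp [hj]
    rw [this, map_sum, sum_mulVec]
    exact Finset.sum_congr rfl fun i _ => by rw [map_smul, smul_mulVec]
  calc (φ a * Pm) r c = (φ a *ᵥ v (e c)) r := rfl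
    _ = ∑ i, a i (e c).1 * v (i, (e c).2) r := by rw [hav]; simp
    _ = ∑ i, ∑ l, v (i, l) r * (a i (e c).1 * (1 : Matrix (Fin w) (Fin w) F) l (e c).2) := by
        refine Finset.sum_congr rfl fun i _ => ?_
        rw [Finset.sum_eq_single (e c).2 (fun l _ hl => by rw [Matrix.one_apply_ne hl, mul_zero, mul_zero]) (by simp),
          Matrix.one_apply_eq, mul_one, mul_comm]
    _ = _ := by
        rw [← Fintype.sum_prod_type', Matrix.mul_apply, ← e.sum_comp]
        simp [Pm, Matrix.kroneckerMap_apply]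

/-- the commutant of the first factor -/
theorem kron_commutant {d w : ℕ} (hd : 0 < d) (X : Matrix (Fin d × Fin w) (Fin d × Fin w) F)
    (h : ∀ i j : Fin d, X * (Matrix.single i j 1 ⊗ₖ (1 : Matrix (Fin w) (Fin w) F)) =
      (Matrix.single i j 1 ⊗ₖ (1 : Matrix (Fin w) (Fin w) F)) * X) :
    ∃ B : Matrix (Fin w) (Fin w) F, X = (1 : Matrix (Fin d) (Fin d) F) ⊗ₖ B := by
  let z : Fin d := ⟨0, hd⟩
  refine ⟨Matrix.of fun k l => X (z, k) (z, l), ?_⟩
  apply Matrix.ext
  rintro ⟨i, k⟩ ⟨j, l⟩
  have h1 := congrFun₂ (h z j) (z, k) (j, l)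
  have h3 := congrFun₂ (h i i) (i, k) (j, l)
  simp [Matrix.mul_apply, Fintype.sum_prod_type, Matrix.kroneckerMap_apply, Matrix.single_apply, Matrix.one_apply,
    ite_and, Finset.sum_ite_eq, Finset.sum_ite_eq'] at h1 h3
  simp [Matrix.kroneckerMap_apply, Matrix.one_apply]
  by_cases hij : i = j
  · subst hij; simp_all
  · simp_all

section Finite

variable [Finite F] {H : Subgroup (GL ι F)} (hirr : ActsIrreducibly (matrixSet H))
include hirr

/-- a normalised commutative subalgebra is a field or gives a decomposition -/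
theorem comm_cases [Nonempty ι] {A : Subalgebra F (Matrix ι ι F)} (hA : Inv H A) (hcomm : ∀ x ∈ A, ∀ y ∈ A, x * y = y * x) :
    IsFieldSubalgebra (Module.finrank F A) A ∨
    ∃ (t m : ℕ) (D : Fin t → Submodule F (ι → F)), IsMDecomposition m D ∧ H ≤ decompositionStabilizer D := by
  classical
  have : Finite A := Module.finite_of_finite F
  letI : CommRing A := { (inferInstance : Ring A) with mul_comm := fun x y => Subtype.ext (hcomm x x.2 y y.2) }
  have hred : ∀ k : A, IsNilpotent k → k = 0 := by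
    intro k hk
    have hb : nilradical A = ⊥ := ideal_eq_bot hirr hA _ (IsNoetherianRing.isNilpotent_nilradical A) fun h hh a ha => by
      obtain ⟨n, hn⟩ := mem_nilradical.1 ha
      refine mem_nilradical.2 ⟨n, Subtype.ext ?_⟩
      have := congrArg (fun x : A => cjA h (x : Matrix ι ι F)) hn
      simp only [SubmonoidClass.coe_pow, map_pow, ZeroMemClass.coe_zero, map_zero] at this
      simpa using this
    have : k ∈ nilradical A := mem_nilradical.2 hk
    rwa [hb] at this
  by_cases hf : ∀ x : A, x ≠ 0 → ∃ y : A, x * y = 1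
  · refine Or.inl ⟨hcomm, fun x hx hx0 => ?_, rfl⟩
    obtain ⟨y, hy⟩ := hf ⟨x, hx⟩ fun hc => hx0 (congrArg Subtype.val hc)
    exact ⟨y, y.2, congrArg Subtype.val hy⟩
  right
  push Not at hf
  obtain ⟨x, hx0, hx⟩ := hf
  obtain ⟨k, hk0, hk⟩ : ∃ k, 0 < k ∧ x ^ k * x ^ k = x ^ k := by
    obtain ⟨i, j, hij, he⟩ : ∃ i j : ℕ, i < j ∧ x ^ i = x ^ j := by
      obtain ⟨a, b, hne, he⟩ := Finite.exists_ne_map_eq_of_infinite (fun n : ℕ => x ^ n)
      rcases hne.lt_or_gt with h | h
      · exact ⟨a, b, h, he⟩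
      · exact ⟨b, a, h, he.symm⟩
    set p := j - i
    have hper : ∀ s, ∀ n, i ≤ n → x ^ (n + p * s) = x ^ n := by
      intro s
      induction s with
      | zero => simp
      | succ s ih =>
        intro n hn
        rw [show n + p * (s + 1) = (n + p * s - i) + j from by
          have : p * (s + 1) = p * s + p := by ring
          omega, pow_add, ← he, ← pow_add]
        rw [show n + p * s - i + i = n + p * s by omega, ih n hn]
    refine ⟨p * (i + 1), Nat.mul_pos (by omega) (Nat.succ_pos _), ?_⟩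
    rw [← pow_add]
    refine hper (i + 1) _ ?_
    have : 1 * (i + 1) ≤ p * (i + 1) := Nat.mul_le_mul_right _ (by omega)
    omega
  let Sg : Finset A := (Set.toFinite {e : A | e * e = e}).toFinset
  have hSg : ∀ e, e ∈ Sg ↔ e * e = e := fun e => by simp [Sg]
  let S : Finset A := Sg.filter fun e => e ≠ 0 ∧ ∀ f ∈ Sg, f * e = f → f = 0 ∨ f = e
  have horth : ∀ a ∈ S, ∀ b ∈ S, a ≠ b → a * b = 0 := by
    intro a ha b hb hab
    simp only [S, Finset.mem_filter, hSg] at ha hb
    have h1 : a * b * (a * b) = a * b := by rw [mul_mul_mul_comm, ha.1, hb.1]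
    have h2 : a * b * a = a * b := by rw [mul_right_comm, ha.1]
    have h3 : a * b * b = a * b := by rw [mul_assoc, hb.1]
    rcases ha.2.2 _ h1 h2 with h | h
    · exact h
    rcases hb.2.2 _ h1 h3 with h' | h'
    · exact h'
    exact absurd (h.symm.trans h') hab
  have hbelow : ∀ g : A, g * g = g → g ≠ 0 → ∃ e ∈ S, e * g = e := by
    intro g hg hg0
    obtain ⟨e, he, hmin⟩ := (Sg.filter fun e => e ≠ 0 ∧ e * g = e).exists_min_image
      (fun e => (Sg.filter fun f => f * e = f).card) ⟨g, by simp [hSg, hg, hg0]⟩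
    simp only [Finset.mem_filter, hSg] at he
    refine ⟨e, ?_, he.2.2⟩
    simp only [S, Finset.mem_filter, hSg]
    refine ⟨he.1, he.2.1, fun f hf hfe => ?_⟩
    by_contra hc
    push Not at hc
    refine absurd (hmin f ?_) (not_le.2 (Finset.card_lt_card ?_))
    · simp only [Finset.mem_filter, hSg]
      exact ⟨hf, hc.1, by rw [← hfe, mul_assoc, he.2.2]⟩
    · refine (Finset.ssubset_iff_of_subset fun a ha => ?_).2 ⟨e, ?_, fun h => hc.2 ?_⟩
      · simp only [Finset.mem_filter, hSg] at ha ⊢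
        exact ⟨ha.1, by rw [← ha.2, mul_assoc, hfe]⟩
      · simp [hSg, he.1]
      · simp only [Finset.mem_filter] at h
        rw [← hfe, mul_comm, h.2]
  have hsum : ∑ e ∈ S, e = 1 := by
    by_contra hc
    set s := ∑ e ∈ S, e with hs
    have hss : ∀ e ∈ S, e * s = e := fun e he => by
      rw [hs, Finset.mul_sum, Finset.sum_eq_single e (fun b hb hbe => horth e he b hb hbe.symm) (absurd he)]
      exact (hSg e).1 (Finset.mem_filter.1 he).1
    have hs2 : s * s = s := by
      rw [hs, Finset.sum_mul]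
      exact Finset.sum_congr rfl hss
    obtain ⟨e, he, heg⟩ := hbelow (1 - s) (by ring_nf; rw [pow_two, hs2]; ring) (sub_ne_zero.2 (Ne.symm hc))
    rw [mul_sub, mul_one, hss e he, sub_self] at heg
    exact (Finset.mem_filter.1 he).2.1 heg.symm
  have htwo : 2 ≤ S.card := by
    have hxk0 : x ^ k ≠ 0 := fun hc => hx0 (hred x ⟨k, hc⟩)
    have hxk1 : x ^ k ≠ 1 := fun hc => hx (x ^ (k - 1)) (by rw [← pow_succ', show k - 1 + 1 = k by omega, hc])
    obtain ⟨a, ha, hae⟩ := hbelow _ hk hxk0
    obtain ⟨b, hb, hbe⟩ := hbelow (1 - x ^ k) (by rw [sub_mul, mul_sub, mul_sub, hk]; ring) (sub_ne_zero.2 (Ne.symm hxk1))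
    refine Finset.one_lt_card.2 ⟨a, ha, b, hb, fun hc => (Finset.mem_filter.1 ha).2.1 ?_⟩
    rw [← hc, mul_sub, mul_one, hae, sub_self] at hbe
    exact hbe.symm
  let σA : (h : GL ι F) → h ∈ H → A → A := fun h hh a => ⟨cjA h (a : Matrix ι ι F), hA h hh a a.2⟩
  have hσS : ∀ h (hh : h ∈ H), ∀ e ∈ S, σA h hh e ∈ S := by
    intro h hh e he
    simp only [S, Finset.mem_filter, hSg] at he ⊢
    refine ⟨Subtype.ext ?_, fun hc => he.2.1 ?_, fun f hf hfe => ?_⟩
    · show cjA h (e : Matrix ι ι F) * cjA h (e : Matrix ι ι F) = _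
      rw [← map_mul, ← Subalgebra.coe_mul, he.1]
    · exact Subtype.ext ((cjA h).injective (by simpa [σA] using congrArg Subtype.val hc))
    · have hval : ∀ y : Matrix ι ι F, cjA h⁻¹ (cjA h y) = y := fun y => by simp [mul_assoc]
      have hval' : ∀ y : Matrix ι ι F, cjA h (cjA h⁻¹ y) = y := fun y => by simp [mul_assoc]
      rcases he.2.2 (σA h⁻¹ (inv_mem hh) f) (Subtype.ext (by
          show cjA h⁻¹ (f : Matrix ι ι F) * cjA h⁻¹ f = _
          rw [← map_mul, ← Subalgebra.coe_mul, hf])) (Subtype.ext (by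
          show cjA h⁻¹ (f : Matrix ι ι F) * e = cjA h⁻¹ f
          conv_rhs => rw [← hfe, Subalgebra.coe_mul, map_mul]
          rw [show ((σA h hh e : A) : Matrix ι ι F) = cjA h e from rfl, hval])) with h0 | h0
      · left; exact Subtype.ext ((cjA h⁻¹).injective (by simpa [σA] using congrArg Subtype.val h0))
      · right
        apply Subtype.ext
        have := congrArg (fun y : A => cjA h (y : Matrix ι ι F)) h0
        simpa [σA, hval', mul_assoc] using this
  let eS := S.equivFin
  let D : Fin S.card → Submodule F (ι → F) := fun i => LinearMap.range ((eS.symm i : A) : Matrix ι ι F).toLin'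
  have hfix : ∀ i, ∀ v ∈ D i, ((eS.symm i : A) : Matrix ι ι F) *ᵥ v = v := by
    rintro i _ ⟨v, rfl⟩
    rw [toLin'_apply, mulVec_mulVec, ← Subalgebra.coe_mul, (hSg _).1 (Finset.mem_filter.1 (eS.symm i).2).1]
  have hkill : ∀ i j, i ≠ j → ∀ v ∈ D j, ((eS.symm i : A) : Matrix ι ι F) *ᵥ v = 0 := by
    intro i j hij v hv
    rw [← hfix j v hv, mulVec_mulVec, ← Subalgebra.coe_mul, horth _ (eS.symm i).2 _ (eS.symm j).2
      (fun hc => hij (eS.symm.injective (Subtype.ext hc))), Subalgebra.coe_zero, zero_mulVec]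
  have hmove : ∀ h (hh : h ∈ H) i, (D i).map (Matrix.toLin' (h : Matrix ι ι F)) =
      D (eS ⟨σA h hh (eS.symm i), hσS h hh _ (eS.symm i).2⟩) := by
    intro h hh i
    simp only [D, Equiv.symm_apply_apply]
    rw [show ((σA h hh (eS.symm i) : A) : Matrix ι ι F) =
      (h : Matrix ι ι F) * (eS.symm i : A) * ((h⁻¹ : GL ι F) : Matrix ι ι F) from rfl,
      toLin'_mul, toLin'_mul, LinearMap.range_comp_of_range_eq_top, LinearMap.range_comp]
    exact LinearMap.range_eq_top.2 fun v => ⟨(h : Matrix ι ι F) *ᵥ v, by simp [toLin'_apply, mulVec_mulVec]⟩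
  have hDne : ∀ i, D i ≠ ⊥ := fun i hc => by
    rw [LinearMap.range_eq_bot, LinearEquiv.map_eq_zero_iff] at hc
    exact (Finset.mem_filter.1 (eS.symm i).2).2.1 (Subtype.ext hc)
  let i₀ : Fin S.card := ⟨0, by omega⟩
  have htrans : ∀ j, Module.finrank F (D j) = Module.finrank F (D i₀) := by
    intro j
    by_contra hj
    let W : Submodule F (ι → F) := ⨆ i ∈ {i | Module.finrank F (D i) = Module.finrank F (D i₀)}, D i
    rcases eq_bot_or_top hirr W (fun g hg v hv => by
      have hmap : W.map (Matrix.toLin' (g : Matrix ι ι F)) ≤ W := by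
        simp only [W, Submodule.map_iSup]
        refine iSup₂_le fun i hi => ?_
        rw [hmove g hg i]
        refine le_iSup₂_of_le _ ?_ le_rfl
        rw [Set.mem_ofPred_eq] at hi ⊢
        rw [← hmove g hg i, ← hi]
        refine LinearEquiv.finrank_eq (Submodule.equivMapOfInjective _ ?_ _).symm
        intro a b hab
        have := congrArg (((g⁻¹ : GL ι F) : Matrix ι ι F) *ᵥ ·) hab
        simpa [toLin'_apply, mulVec_mulVec] using this
      exact hmap ⟨v, hv, by rw [toLin'_apply]⟩) with hW | hW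
    · exact hDne i₀ (eq_bot_iff.2 (hW ▸ le_iSup₂_of_le i₀ rfl le_rfl))
    · apply hDne j
      rw [eq_bot_iff]
      intro v hv
      have hle : W ≤ LinearMap.ker ((eS.symm j : A) : Matrix ι ι F).toLin' := iSup₂_le fun i hi u hu => by
        rw [LinearMap.mem_ker, toLin'_apply]
        exact hkill j i (fun hc => hj (hc ▸ hi)) u hu
      have := hle (hW ▸ Submodule.mem_top : v ∈ W)
      rw [LinearMap.mem_ker, toLin'_apply, hfix j v hv] at this
      rw [this]; exact zero_mem _
  refine ⟨S.card, Module.finrank F (D i₀), D, ⟨htwo, ?_, htrans, ?_, ?_⟩, ?_⟩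
  · exact Nat.pos_of_ne_zero fun hc => hDne i₀ (Submodule.finrank_eq_zero.1 hc)
  · rw [iSupIndep_def]
    intro i
    rw [Submodule.disjoint_def]
    intro v hv hv'
    have hle : (⨆ j, ⨆ (_ : j ≠ i), D j) ≤ LinearMap.ker ((eS.symm i : A) : Matrix ι ι F).toLin' :=
      iSup₂_le fun j hj u hu => by rw [LinearMap.mem_ker, toLin'_apply]; exact hkill i j hj.symm u hu
    have := hle hv'
    rwa [LinearMap.mem_ker, toLin'_apply, hfix i v hv] at this
  · rw [eq_top_iff]
    intro v _
    have hv : v = ∑ i, ((eS.symm i : A) : Matrix ι ι F) *ᵥ v := by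
      rw [← sum_mulVec, ← AddSubmonoidClass.coe_finsetSum, eS.symm.sum_comp (fun e : ↥S => (e : A)),
        Finset.sum_coe_sort S (fun e => e), hsum, Subalgebra.coe_one, one_mulVec]
    rw [hv]
    exact Submodule.sum_mem _ fun i _ => (le_iSup D i) ⟨v, toLin'_apply _ _⟩
  · intro h hh
    refine ⟨(eS.symm.trans (Equiv.ofBijective (fun e : ↥S => (⟨σA h hh e, hσS h hh e e.2⟩ : ↥S)) ?_)).trans eS, fun i => ?_⟩
    · refine Finite.injective_iff_bijective.1 fun a b hab => Subtype.ext (Subtype.ext ((cjA h).injective ?_))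
      exact congrArg (fun e : ↥S => ((e : A) : Matrix ι ι F)) hab
    · exact hmove h hh i

/-- a normalised subalgebra with scalar centre is a matrix algebra -/
theorem matrix_form [Nonempty ι] {A : Subalgebra F (Matrix ι ι F)} (hA : Inv H A)
    (hcen : ∀ z ∈ A, (∀ a ∈ A, z * a = a * z) → ∃ c : F, z = c • 1) :
    ∃ (d : ℕ) (φ : Matrix (Fin d) (Fin d) F →ₐ[F] Matrix ι ι F), 0 < d ∧ φ.range = A ∧ Function.Injective φ := by
  classical
  have : Finite A := Module.finite_of_finite F
  have : IsArtinianRing A := isArtinian_of_finite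
  have hJ : Ring.jacobson A = ⊥ := ideal_eq_bot hirr hA _ (IsSemiprimaryRing.isNilpotent (R := A)) fun h hh a ha => by
    let f : A →+* A :=
      { toFun := fun a => ⟨cjA h (a : Matrix ι ι F), hA h hh a a.2⟩
        map_one' := Subtype.ext (by simp)
        map_mul' := fun a b => Subtype.ext (map_mul (cjA h) _ _)
        map_zero' := Subtype.ext (by simp)
        map_add' := fun a b => Subtype.ext (map_add (cjA h) _ _) }
    have : RingHomSurjective f := ⟨fun a => ⟨⟨cjA h⁻¹ (a : Matrix ι ι F), hA _ (inv_mem hh) a a.2⟩,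
      Subtype.ext (by simp [f, mul_assoc])⟩⟩
    exact Ring.le_comap_jacobson f ha
  have : IsSemisimpleRing A := IsArtinianRing.isSemisimpleRing_iff_jacobson.2 hJ
  obtain ⟨n, D, d, _, _, _, hd, ⟨e⟩⟩ := IsSemisimpleRing.exists_algEquiv_pi_matrix_divisionRing_finite F A
  have hcentre : ∀ z : (i : Fin n) → Matrix (Fin (d i)) (Fin (d i)) (D i), (∀ y, z * y = y * z) →
      ∃ c : F, z = algebraMap F _ c := by
    intro z hz
    obtain ⟨c, hc⟩ := hcen _ (e.symm z).2 fun a ha => by
      have := hz (e ⟨a, ha⟩)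
      have := congrArg (fun y => ((e.symm y : A) : Matrix ι ι F)) this
      simpa using this
    refine ⟨c, e.symm.injective ?_⟩
    rw [AlgEquiv.commutes]
    exact Subtype.ext (hc.trans (Algebra.algebraMap_eq_smul_one c).symm)
  obtain ⟨i, hi⟩ : ∃ i : Fin n, ∀ j, j = i := by
    rcases n with _ | n
    · have h01 : (1 : A) = 0 := e.injective (funext fun i => i.elim0)
      exact absurd (congrArg Subtype.val h01) one_ne_zero
    refine ⟨0, fun j => ?_⟩
    by_contra hj
    obtain ⟨c, hc⟩ := hcentre (Pi.single 0 1) fun y => by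
      funext k
      by_cases hk : k = 0
      · subst hk; simp
      · simp [hk]
    have h0 := congrFun hc 0
    have hj' := congrFun hc j
    rw [Pi.single_eq_same, Pi.algebraMap_apply] at h0
    rw [Pi.single_eq_of_ne hj, Pi.algebraMap_apply] at hj'
    have hc0 : c = 0 := by
      have := hd j
      exact (FaithfulSMul.algebraMap_injective F (Matrix (Fin (d j)) (Fin (d j)) (D j))) (by rw [map_zero]; exact hj'.symm)
    have := hd 0
    rw [hc0, map_zero] at h0
    exact one_ne_zero h0
  have hdi := hd i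
  let ψ : A →ₐ[F] Matrix (Fin (d i)) (Fin (d i)) (D i) := (Pi.evalAlgHom F _ i).comp e.toAlgHom
  have hψ : Function.Bijective ψ := by
    refine ⟨fun a b hab => e.injective (funext fun j => ?_), fun y => ⟨e.symm (Function.update 0 i y), by simp [ψ]⟩⟩
    obtain rfl := hi j
    exact hab
  have : Finite (D i) := Module.finite_of_finite F
  have hDcomm : ∀ x y : D i, x * y = y * x := (littleWedderburn (D i)).mul_comm
  have hsurj : Function.Surjective (Algebra.ofId F (D i)) := by
    intro x
    obtain ⟨c, hc⟩ := hcentre (Function.update 0 i (Matrix.scalar _ x)) fun y => by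
      funext j
      obtain rfl := hi j
      simp only [Pi.mul_apply, Function.update_self]
      exact Matrix.scalar_commute x (fun r => hDcomm x r) _
    refine ⟨c, ?_⟩
    have := congrFun hc i
    rw [Function.update_self, Pi.algebraMap_apply, Algebra.algebraMap_eq_smul_one] at this
    have := congrFun₂ this (0 : Fin (d i)) 0
    simpa [Algebra.ofId_apply, Algebra.algebraMap_eq_smul_one] using this.symm
  let φ₀ : Matrix (Fin (d i)) (Fin (d i)) F →ₐ[F] A := (AlgEquiv.ofBijective ψ hψ).symm.toAlgHom.comp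
    (Algebra.ofId F (D i)).mapMatrix
  have hφ₀ : Function.Bijective φ₀ := by
    refine (AlgEquiv.ofBijective ψ hψ).symm.bijective.comp ⟨fun a b hab => ?_, fun y => ?_⟩
    · exact Matrix.ext fun r s => (Algebra.ofId F (D i)).toRingHom.injective (congrFun₂ hab r s)
    · exact ⟨fun r s => (hsurj (y r s)).choose, Matrix.ext fun r s => (hsurj (y r s)).choose_spec⟩
  refine ⟨d i, A.val.comp φ₀, Nat.pos_of_ne_zero (NeZero.ne _), ?_, Subtype.val_injective.comp hφ₀.1⟩
  ext a
  constructor
  · rintro ⟨b, rfl⟩; exact (φ₀ b).2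
  · intro ha
    obtain ⟨b, hb⟩ := hφ₀.2 ⟨a, ha⟩
    exact ⟨b, by simp [hb]⟩

end Finite

end Cfsg.Agent.Lib.SLTwoPrime
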