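import Cfsg.Prelude.Def_GeometricClasses

/-! The special linear group lies in none of the proper geometric subgroups. -/

set_option autoImplicit false

namespace Cfsg.Agent.Lib.SLTwoPrime

open Cfsg.Geo Matrix
open scoped MatrixGroups

variable {ι : Type} [Fintype ι] [DecidableEq ι] {F : Type*} [Field F]

/-- a transvection as an invertible matrix -/
def tv (u w : ι → F) (h : w ⬝ᵥ u = 0) : GL ι F where
  val := 1 + vecMulVec u w
  inv := 1 - vecMulVec u w
  val_inv := by
    rw [add_mul, mul_sub, one_mul, mul_sub, mul_one, vecMulVec_mul_vecMulVec, h]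
    simp
  inv_val := by
    rw [sub_mul, mul_add, one_mul, mul_add, mul_one, vecMulVec_mul_vecMulVec, h]
    simp

lemma tv_mem (u w : ι → F) (h : w ⬝ᵥ u = 0) : tv u w h ∈ specialLinear ι F := by
  rw [specialLinear, MonoidHom.mem_ker]
  apply Units.ext
  show (1 + vecMulVec u w).det = 1
  rw [vecMulVec_eq Unit, det_one_add_replicateCol_mul_replicateRow, h, add_zero]

lemma tv_mulVec (u w : ι → F) (h : w ⬝ᵥ u = 0) (v : ι → F) :
    (tv u w h : Matrix ι ι F) *ᵥ v = v + (w ⬝ᵥ v) • u := by
  show (1 + vecMulVec u w) *ᵥ v = _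
  rw [add_mulVec, one_mulVec, vecMulVec_mulVec, op_smul_eq_smul]

lemma exists_dual {W : Submodule F (ι → F)} {v : ι → F} (hv : v ∉ W) :
    ∃ w : ι → F, (∀ x ∈ W, w ⬝ᵥ x = 0) ∧ w ⬝ᵥ v = 1 := by
  obtain ⟨φ, hφv, hφW⟩ := Submodule.exists_dual_map_eq_bot_of_notMem hv inferInstance
  have he : ∀ x : ι → F, (fun i => φ (Pi.single i 1)) ⬝ᵥ x = φ x := by
    intro x
    conv_rhs => rw [pi_eq_sum_univ' x, map_sum]
    simp [dotProduct, mul_comm]
  refine ⟨(φ v)⁻¹ • fun i => φ (Pi.single i 1), fun x hx => ?_, ?_⟩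
  · have : φ x ∈ W.map φ := ⟨x, hx, rfl⟩
    rw [hφW, Submodule.mem_bot] at this
    rw [smul_dotProduct, he, this, smul_zero]
  · rw [smul_dotProduct, he, smul_eq_mul, inv_mul_cancel₀ hφv]

lemma exists_common_kernel (hn : 3 ≤ Fintype.card ι) (φ₁ φ₂ : Module.Dual F (ι → F)) :
    ∃ v : ι → F, v ≠ 0 ∧ φ₁ v = 0 ∧ φ₂ v = 0 := by
  have h : LinearMap.ker (φ₁.prod φ₂) ≠ ⊥ := by
    intro hb
    have := LinearMap.finrank_le_finrank_of_injective (LinearMap.ker_eq_bot.1 hb)
    simp at this
    omega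
  obtain ⟨v, hv, h0⟩ := Submodule.exists_mem_ne_zero_of_ne_bot h
  rw [LinearMap.mem_ker, LinearMap.prod_apply, Function.prod_apply, Prod.mk_eq_zero] at hv
  exact ⟨v, h0, hv⟩

lemma scalar_of_eigen (M : Matrix ι ι F) (h : ∀ v : ι → F, ∃ c : F, M *ᵥ v = c • v) :
    ∃ c : F, M = c • 1 := by
  have hd : ∀ i j, i ≠ j → M i j = 0 := by
    intro i j hij
    obtain ⟨c, hc⟩ := h (Pi.single j 1)
    simpa [mulVec_single, Pi.single_eq_of_ne hij] using congrFun hc i
  have he : ∀ i j, M i i = M j j := by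
    intro i j
    by_cases hij : i = j
    · rw [hij]
    obtain ⟨c, hc⟩ := h (Pi.single i 1 + Pi.single j 1)
    have h1 := congrFun hc i
    have h2 := congrFun hc j
    simp [mulVec_add, mulVec_single, Pi.single_eq_of_ne hij, Pi.single_eq_of_ne (Ne.symm hij),
      hd i j hij, hd j i (Ne.symm hij)] at h1 h2
    rw [h1, h2]
  rcases isEmpty_or_nonempty ι with hi | ⟨⟨i₀⟩⟩
  · exact ⟨1, by ext i; exact hi.elim i⟩
  refine ⟨M i₀ i₀, ?_⟩
  ext i j
  by_cases hij : i = j
  · subst hij; simp [he i i₀]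
  · simp [hd i j hij, hij]

theorem not_le_subspaceStabilizer {W : Submodule F (ι → F)} (h0 : W ≠ ⊥) (h1 : W ≠ ⊤) :
    ¬ specialLinear ι F ≤ subspaceStabilizer W := by
  intro h
  obtain ⟨x, hx, hx0⟩ := Submodule.exists_mem_ne_zero_of_ne_bot h0
  obtain ⟨u, -, hu⟩ := SetLike.exists_of_lt (lt_top_iff_ne_top.2 h1)
  have hxu : x ∉ Submodule.span F {u} := by
    rw [Submodule.mem_span_singleton]
    rintro ⟨c, rfl⟩
    rcases eq_or_ne c 0 with rfl | hc
    · simp at hx0
    · exact hu (by simpa [hc] using W.smul_mem c⁻¹ hx)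
  obtain ⟨w, hw, hwx⟩ := exists_dual hxu
  have ht := h (tv_mem u w (hw u (Submodule.mem_span_singleton_self u)))
  have h2 : (tv u w (hw u (Submodule.mem_span_singleton_self u)) : Matrix ι ι F) *ᵥ x ∈ W := by
    have := ht
    change _ ∈ stabilizing (glToMat ι F) (W : Set (ι → F)) at this
    exact (this x).1 hx
  rw [tv_mulVec, hwx, one_smul] at h2
  exact hu (by simpa using W.sub_mem h2 hx)

theorem not_le_decompositionStabilizer {t m : ℕ} {D : Fin t → Submodule F (ι → F)}
    (hD : IsMDecomposition m D) (hn : 3 ≤ Fintype.card ι) :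
    ¬ specialLinear ι F ≤ decompositionStabilizer D := by
  intro h
  haveI := Fact.mk hD.two_le
  have hne : ∀ i, D i ≠ ⊥ := fun i hb => by
    have := hD.finrank_eq i
    rw [hb, finrank_bot] at this
    exact hD.pos.ne this
  choose z hz hz0 using fun i => Submodule.exists_mem_ne_zero_of_ne_bot (hne i)
  have hcard : m = 1 → 3 ≤ t := by
    intro hm
    by_contra ht
    have h2 : t = 2 := by have := hD.two_le; omega
    subst h2
    have htop := hD.iSup_eq_top
    have hle : Module.finrank F ↥(⨆ i, D i) ≤ m + m := by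
      have e : (⨆ i, D i) = D 0 ⊔ D 1 := le_antisymm (iSup_le fun i => by fin_cases i <;> simp)
        (sup_le (le_iSup D 0) (le_iSup D 1))
      rw [e]
      exact (Submodule.finrank_add_le_finrank_add_finrank _ _).trans (by rw [hD.finrank_eq, hD.finrank_eq])
    rw [htop, finrank_top, Module.finrank_fintype_fun_eq_card] at hle
    omega
  have hind := hD.indep
  rw [iSupIndep_iff_finset_sum_eq_zero_imp_eq_zero] at hind
  set u := ∑ i, z i with hu
  have hnot : ∀ s : Finset (Fin t), s ≠ Finset.univ → u ∉ ⨆ i ∈ s, D i := by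
    intro s hs hus
    obtain ⟨v, hv⟩ := (Submodule.mem_iSup_finset_iff_exists_sum D u).1 hus
    obtain ⟨i, hi⟩ : ∃ i, i ∉ s := by
      by_contra hc; push Not at hc; exact hs (Finset.eq_univ_iff_forall.2 hc)
    have := hind Finset.univ (fun j => z j - if j ∈ s then (v j : ι → F) else 0)
      (fun j _ => by split <;> [exact (D j).sub_mem (hz j) (v j).2; simpa using hz j]) (by
        rw [Finset.sum_sub_distrib, Finset.sum_ite_mem, Finset.univ_inter, hv, ← hu, sub_self]) i (Finset.mem_univ i)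
    simp [hi] at this
    exact hz0 i this
  have h1 : ∀ i, u ∉ D i := fun i hi => hnot {i} (by
      intro hc
      have := congrArg Finset.card hc
      simp at this; have := hD.two_le; omega) (by simpa using hi)
  have hu0 : u ≠ 0 := fun hc => h1 ⟨0, by have := hD.two_le; omega⟩ (hc ▸ zero_mem _)
  obtain ⟨x, -, hx⟩ := SetLike.exists_of_lt
    (show Submodule.span F {u} < ⊤ by
      refine lt_top_iff_ne_top.2 fun hc => ?_
      have := finrank_span_singleton (K := F) hu0
      rw [hc, finrank_top, Module.finrank_fintype_fun_eq_card] at this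
      omega)
  obtain ⟨w, hw, hwx⟩ := exists_dual hx
  obtain ⟨σ, hσ⟩ := h (tv_mem u w (hw u (Submodule.mem_span_singleton_self u)))
  have hmap : ∀ i, ∀ v ∈ D i, v + (w ⬝ᵥ v) • u ∈ D (σ i) := by
    intro i v hv
    rw [← hσ i]
    exact ⟨v, hv, by rw [toLin'_apply, tv_mulVec]⟩
  have hk : ∀ i, ∀ v ∈ D i, w ⬝ᵥ v = 0 := by
    intro i
    have hij : σ i = i := by
      by_contra hij
      have hdis : Disjoint (D i) (D (σ i)) := hD.indep.pairwiseDisjoint (Ne.symm hij)
      by_cases hv : ∀ v ∈ D i, w ⬝ᵥ v = 0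
      · have := hmap i (z i) (hz i)
        rw [hv _ (hz i), zero_smul, add_zero] at this
        exact hz0 i (Submodule.disjoint_def.1 hdis _ (hz i) this)
      push Not at hv
      obtain ⟨v, hv, hwv⟩ := hv
      by_cases hm : m = 1
      · refine hnot {i, σ i} ?_ ?_
        · intro hc
          have := congrArg Finset.card hc
          rw [Finset.card_pair (Ne.symm hij)] at this
          simp at this; have := hcard hm; omega
        · rw [Finset.iSup_insert, Finset.iSup_singleton]
          have := Submodule.sub_mem _ (Submodule.mem_sup_right (S := D i) (hmap i v hv))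
            (Submodule.mem_sup_left (T := D (σ i)) hv)
          rw [add_sub_cancel_left] at this
          exact (Submodule.smul_mem_iff _ hwv).1 this
      · let φ : ↥(D i) →ₗ[F] F := (dotProductBilin F F w).comp (D i).subtype
        have hker : LinearMap.ker φ ≠ ⊥ := fun hb => by
          have := LinearMap.finrank_le_finrank_of_injective (LinearMap.ker_eq_bot.1 hb)
          rw [hD.finrank_eq, Module.finrank_self] at this
          have := hD.pos; omega
        obtain ⟨y, hy, hy0⟩ := Submodule.exists_mem_ne_zero_of_ne_bot hker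
        have hy' : w ⬝ᵥ (y : ι → F) = 0 := hy
        have := hmap i y y.2
        rw [hy', zero_smul, add_zero] at this
        exact hy0 (Subtype.ext (Submodule.disjoint_def.1 hdis _ y.2 this))
    intro v hv
    have := hmap i v hv
    rw [hij, Submodule.add_mem_iff_right _ hv] at this
    by_contra hwv
    exact h1 i ((Submodule.smul_mem_iff _ hwv).1 this)
  have hxtop : x ∈ iSup D := hD.iSup_eq_top ▸ Submodule.mem_top
  have : w ⬝ᵥ x = 0 := Submodule.iSup_induction (motive := fun v => w ⬝ᵥ v = 0) D hxtop hk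
    (dotProduct_zero w) fun a b ha hb => by rw [dotProduct_add, ha, hb, add_zero]
  exact one_ne_zero (hwx.symm.trans this)

theorem not_le_subalgebraNormalizer {r : ℕ} {K : Subalgebra F (Matrix ι ι F)}
    (hK : IsFieldSubalgebra r K) (hr : 2 ≤ r) (hn : 3 ≤ Fintype.card ι) :
    ¬ specialLinear ι F ≤ subalgebraNormalizer K := by
  intro h
  have hsc : ∀ k ∈ K, ∃ c : F, k = c • 1 := by
    intro k hk
    refine scalar_of_eigen k fun u => ?_
    rcases eq_or_ne u 0 with rfl | hu
    · exact ⟨0, by simp⟩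
    obtain ⟨x, -, hx⟩ := SetLike.exists_of_lt (show Submodule.span F {u} < ⊤ by
      refine lt_top_iff_ne_top.2 fun hc => ?_
      have := finrank_span_singleton (K := F) hu
      rw [hc, finrank_top, Module.finrank_fintype_fun_eq_card] at this
      omega)
    obtain ⟨w, hw, hwx⟩ := exists_dual hx
    have hwu := hw u (Submodule.mem_span_singleton_self u)
    set T := tv u w hwu
    have hd : (T : Matrix ι ι F) * k * ((T⁻¹ : GL ι F) : Matrix ι ι F) - k ∈ K :=
      K.sub_mem ((h (tv_mem u w hwu) k).1 hk) hk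
    obtain ⟨v, hv0, hv1, hv2⟩ := exists_common_kernel hn (dotProductBilin F F w)
      ((dotProductBilin F F w).comp k.toLin')
    have hTv : ((T⁻¹ : GL ι F) : Matrix ι ι F) *ᵥ v = v := by
      show (1 - vecMulVec u w) *ᵥ v = v
      rw [sub_mulVec, one_mulVec, vecMulVec_mulVec, op_smul_eq_smul]
      simp only [dotProductBilin_apply_apply] at hv1
      rw [hv1, zero_smul, sub_zero]
    have hdv : ((T : Matrix ι ι F) * k * ((T⁻¹ : GL ι F) : Matrix ι ι F) - k) *ᵥ v = 0 := by
      rw [sub_mulVec, ← mulVec_mulVec, ← mulVec_mulVec, hTv, tv_mulVec]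
      simp only [LinearMap.comp_apply, dotProductBilin_apply_apply, toLin'_apply] at hv2
      rw [hv2, zero_smul, add_zero, sub_self]
    have heq : (T : Matrix ι ι F) * k * ((T⁻¹ : GL ι F) : Matrix ι ι F) - k = 0 := by
      by_contra hne
      obtain ⟨e, heK, he⟩ := hK.inv _ hd hne
      rw [hK.comm _ hd _ heK] at he
      have := congrArg (· *ᵥ v) he
      simp only [← mulVec_mulVec, hdv, mulVec_zero, one_mulVec] at this
      exact hv0 this.symm
    rw [sub_eq_zero, Units.mul_inv_eq_iff_eq_mul] at heq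
    have := congrArg (· *ᵥ x) heq
    simp only [← mulVec_mulVec] at this
    rw [tv_mulVec, tv_mulVec, hwx, one_smul, mulVec_add] at this
    exact ⟨w ⬝ᵥ (k *ᵥ x), (add_left_cancel this).symm⟩
  have hle : Subalgebra.toSubmodule K ≤ Submodule.span F {(1 : Matrix ι ι F)} := fun k hk => by
    obtain ⟨c, rfl⟩ := hsc k hk
    exact Submodule.mem_span_singleton.2 ⟨c, rfl⟩
  have hh := (Submodule.finrank_mono hle).trans (finrank_span_le_card ({(1 : Matrix ι ι F)} : Set _))
  rw [Subalgebra.finrank_toSubmodule, hK.finrank_eq, Set.toFinset_singleton, Finset.card_singleton] at hh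
  omega

theorem not_le_similarityGroup (hn : 3 ≤ Fintype.card ι) (f : (ι → F) → (ι → F) → F) (τ : F ≃+* F)
    (hadd : ∀ a x y, f a (x + y) = f a x + f a y) (hsmul : ∀ a x (c : F), f a (c • x) = τ c * f a x)
    (hnd : IsNondegenerateForm f) :
    ¬ specialLinear ι F ≤ similarityGroup f := by
  classical
  intro h
  obtain ⟨i₀⟩ : Nonempty ι := Fintype.card_pos_iff.1 (by omega)
  set u : ι → F := Pi.single i₀ 1
  have hu : u ≠ 0 := fun hc => one_ne_zero (α := F) (by simpa [u] using congrFun hc i₀)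
  obtain ⟨a, ha⟩ := (hnd u hu).1
  obtain ⟨y, hy, hyne⟩ : ∃ y, f a y = 0 ∧ y ∉ Submodule.span F ({u, a} : Set (ι → F)) := by
    by_contra hc
    push Not at hc
    have htop : (⊤ : Submodule F (ι → F)) ≤ Submodule.span F ({u, a} : Set (ι → F)) := by
      intro v _
      set c := τ.symm (f a v / f a u)
      have h1 : f a (v + (-c) • u) = 0 := by
        rw [hadd, hsmul, map_neg, RingEquiv.apply_symm_apply, neg_mul, div_mul_cancel₀ _ ha, add_neg_cancel]
      have := Submodule.add_mem _ (hc _ h1) (Submodule.smul_mem _ c (Submodule.subset_span (Set.mem_insert u {a})))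
      rwa [add_assoc, ← add_smul, neg_add_cancel, zero_smul, add_zero] at this
    have h2 := (Submodule.finrank_mono htop).trans (finrank_span_le_card ({u, a} : Set (ι → F)))
    rw [finrank_top, Module.finrank_fintype_fun_eq_card, Set.toFinset_insert, Set.toFinset_singleton] at h2
    have := h2.trans Finset.card_le_two
    omega
  obtain ⟨w, hw, hwy⟩ := exists_dual hyne
  have hwu := hw u (Submodule.subset_span (Set.mem_insert u {a}))
  obtain ⟨c, hc⟩ := h (tv_mem u w hwu)
  have h1 := hc a y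
  rw [tv_mulVec, tv_mulVec, hw a (Submodule.subset_span (Set.mem_insert_of_mem u rfl)), hwy, zero_smul, add_zero,
    one_smul, hy, mul_zero, hadd, hy, zero_add] at h1
  exact ha h1

theorem not_le_subfieldSubgroup {F₀ : Subfield F} (hF : F₀ ≠ ⊤) (P : GL ι F) (hn : 2 ≤ Fintype.card ι) :
    ¬ specialLinear ι F ≤ subfieldSubgroup F₀ P := by
  intro h
  obtain ⟨i, j, hij⟩ := Fintype.exists_pair_of_one_lt_card (show 1 < Fintype.card ι by omega)
  obtain ⟨b, -, hb⟩ := SetLike.exists_of_lt (lt_top_iff_ne_top.2 hF)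
  have hwu : (Pi.single j (1 : F) : ι → F) ⬝ᵥ Pi.single i b = 0 := by
    rw [single_dotProduct, Pi.single_eq_of_ne hij.symm, mul_zero]
  set T := tv (Pi.single i b) (Pi.single j (1 : F)) hwu
  have hmem : P * T * P⁻¹ ∈ specialLinear ι F :=
    (show (specialLinear ι F).Normal from MonoidHom.normal_ker _).conj_mem T (tv_mem _ _ hwu) P
  obtain ⟨g, hg, hgeq⟩ := h hmem
  have hgT : g = T := (MulAut.conj P).injective hgeq
  subst hgT
  obtain ⟨g₁, ⟨g₀, hg₀⟩, z, hz, hgz⟩ := Subgroup.mem_sup_of_normal_right.1 hg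
  obtain ⟨c, hc⟩ := (mem_scalars_iff z).1 hz
  have hval : ∀ r s, (T : Matrix ι ι F) r s = (c : F) * (g₀ r s : F₀) := by
    intro r s
    rw [← hgz, Units.val_mul, hc, Matrix.mul_smul, Matrix.mul_one, Matrix.smul_apply, ← hg₀]
    rfl
  have hT : ∀ r s, (T : Matrix ι ι F) r s = (1 : Matrix ι ι F) r s + Pi.single (M := fun _ => F) i b r * Pi.single (M := fun _ => F) j 1 s :=
    fun r s => rfl
  have h1 := hval j j
  rw [hT, one_apply_eq, Pi.single_eq_of_ne hij.symm, zero_mul, add_zero] at h1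
  have h2 := hval i j
  rw [hT, one_apply_ne hij, Pi.single_eq_same, Pi.single_eq_same, zero_add, mul_one] at h2
  apply hb
  have hc' : (c : F) = ((g₀ j j : F₀) : F)⁻¹ := eq_inv_of_mul_eq_one_left h1.symm
  rw [h2, hc']
  exact F₀.mul_mem (F₀.inv_mem (g₀ j j).2) (g₀ i j).2

theorem not_le_tensorProductSubgroup {n₁ n₂ : ℕ} (h₁ : 2 ≤ n₁) (h₂ : 2 ≤ n₂) (e : ι ≃ Fin n₁ × Fin n₂) (P : GL ι F) :
    ¬ specialLinear ι F ≤ tensorProductSubgroup n₁ n₂ e P := by
  intro h
  let a : Fin n₁ := ⟨0, by omega⟩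
  let a' : Fin n₁ := ⟨1, by omega⟩
  let b : Fin n₂ := ⟨0, by omega⟩
  let b' : Fin n₂ := ⟨1, by omega⟩
  have ha : a ≠ a' := by simp [a, a', Fin.ext_iff]
  have hb : b ≠ b' := by simp [b, b', Fin.ext_iff]
  have hne : e.symm (a, b) ≠ e.symm (a', b') := fun hc => ha (Prod.mk.inj (e.symm.injective hc)).1
  have hwu : (Pi.single (e.symm (a', b')) (1 : F) : ι → F) ⬝ᵥ Pi.single (e.symm (a, b)) 1 = 0 := by
    rw [single_dotProduct, Pi.single_eq_of_ne hne.symm, mul_zero]
  set T := tv (Pi.single (e.symm (a, b)) (1 : F)) (Pi.single (e.symm (a', b')) (1 : F)) hwu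
  have hmem : P * T * P⁻¹ ∈ specialLinear ι F :=
    (show (specialLinear ι F).Normal from MonoidHom.normal_ker _).conj_mem T (tv_mem _ _ hwu) P
  obtain ⟨g, ⟨k, ⟨A, B, hk⟩, hkg⟩, hgeq⟩ := h hmem
  have hgT : g = T := (MulAut.conj P).injective hgeq
  subst hgT
  have hval : ∀ r s, (T : Matrix ι ι F) (e.symm r) (e.symm s) =
      (A : Matrix _ _ F) r.1 s.1 * (B : Matrix _ _ F) r.2 s.2 := by
    intro r s
    rw [← hkg]
    show (Matrix.reindex e.symm e.symm (k : Matrix _ _ F)) _ _ = _
    simp [hk]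
  have hT : ∀ r s, (T : Matrix ι ι F) r s = (1 : Matrix ι ι F) r s +
      Pi.single (M := fun _ => F) (e.symm (a, b)) 1 r * Pi.single (M := fun _ => F) (e.symm (a', b')) 1 s :=
    fun r s => rfl
  have h1 := hval (a, b) (a', b')
  have h2 := hval (a, b) (a, b)
  have h3 := hval (a, b) (a', b)
  rw [hT, one_apply_ne hne, Pi.single_eq_same, Pi.single_eq_same, zero_add, mul_one] at h1
  rw [hT, one_apply_eq, Pi.single_eq_of_ne hne, mul_zero, add_zero] at h2
  rw [hT, one_apply_ne (fun hc => ha (Prod.mk.inj (e.symm.injective hc)).1),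
    Pi.single_eq_of_ne (fun hc => hb (Prod.mk.inj (e.symm.injective hc)).2), mul_zero, add_zero] at h3
  rcases mul_eq_zero.1 h3.symm with hz | hz
  · simp [hz] at h1
  · simp [hz] at h2

end Cfsg.Agent.Lib.SLTwoPrime
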