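import Cfsg.Agent.Lib.SLTwoPrime.Core

/-! Invariant forms and subfields of absolutely irreducible normal subgroups. -/

set_option autoImplicit false

namespace Cfsg.Agent.Lib.SLTwoPrime

open Cfsg.Geo Matrix
open scoped MatrixGroups Kronecker

variable {ι : Type} [Fintype ι] [DecidableEq ι] {F : Type*} [Field F]

/-- a form linear on the left and semilinear on the right -/
structure Sesq (σ : F ≃+* F) (f : (ι → F) → (ι → F) → F) : Prop where
  add_left : ∀ x y v, f (x + y) v = f x v + f y v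
  smul_left : ∀ (c : F) (x v : ι → F), f (c • x) v = c * f x v
  add_right : ∀ v x y, f v (x + y) = f v x + f v y
  smul_right : ∀ (c : F) (v x : ι → F), f v (c • x) = σ c * f v x

lemma Sesq.of_bilinear {f : (ι → F) → (ι → F) → F} (h : IsBilinearForm f) : Sesq (RingEquiv.refl F) f :=
  ⟨h.add_left, h.smul_left, h.add_right, h.smul_right⟩

lemma Sesq.of_unitary {σ : F ≃+* F} {f : (ι → F) → (ι → F) → F} (h : IsUnitaryForm σ f) : Sesq σ f := by
  refine ⟨h.add_left, h.smul_left, fun v x y => ?_, fun c v x => ?_⟩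
  · rw [h.herm, h.add_left, map_add, ← h.herm, ← h.herm]
  · rw [h.herm, h.smul_left, map_mul, ← h.herm]

lemma Sesq.eq_formOfGram {σ : F ≃+* F} {f : (ι → F) → (ι → F) → F} (hf : Sesq σ f) (x y : ι → F) :
    f x y = x ⬝ᵥ (gramMatrix f *ᵥ fun i => σ (y i)) := by
  have h1 : ∀ v, f x v = ∑ a, x a * f (Pi.single a 1) v := by
    intro v
    let g : (ι → F) →ₗ[F] F :=
      { toFun := fun u => f u v
        map_add' := fun a b => hf.add_left a b v
        map_smul' := fun c a => hf.smul_left c a v }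
    show g x = _
    conv_lhs => rw [pi_eq_sum_univ' x, map_sum]
    exact Finset.sum_congr rfl fun a _ => by rw [map_smul]; rfl
  have h2 : ∀ a, f (Pi.single a 1) y = ∑ b, gramMatrix f a b * σ (y b) := by
    intro a
    let g : (ι → F) →+ F := AddMonoidHom.mk' (fun u => f (Pi.single a 1) u) (hf.add_right _)
    show g y = _
    conv_lhs => rw [pi_eq_sum_univ' y, map_sum]
    exact Finset.sum_congr rfl fun b _ => (hf.smul_right _ _ _).trans (mul_comm _ _)
  rw [h1]
  simp only [h2, dotProduct, mulVec]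

lemma Sesq.isUnit_gram {σ : F ≃+* F} {f : (ι → F) → (ι → F) → F} (hf : Sesq σ f) (hnd : IsNondegenerateForm f) :
    IsUnit (gramMatrix f) := by
  rw [← Matrix.mulVec_injective_iff_isUnit, ← Matrix.coe_mulVecLin, injective_iff_map_eq_zero]
  intro z hz
  by_contra hz0
  set y : ι → F := fun i => σ.symm (z i)
  have hy : y ≠ 0 := fun hc => hz0 (funext fun i => by simpa [y] using congrFun hc i)
  obtain ⟨x, hx⟩ := (hnd y hy).1
  refine hx ?_
  rw [hf.eq_formOfGram]
  simp only [y, RingEquiv.apply_symm_apply]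
  rw [show gramMatrix f *ᵥ z = 0 from hz, dotProduct_zero]

lemma Sesq.gram_fixed {σ : F ≃+* F} {f : (ι → F) → (ι → F) → F} (hf : Sesq σ f) {s : Matrix ι ι F}
    (h : ∀ u v, f (s *ᵥ u) (s *ᵥ v) = f u v) : sᵀ * (gramMatrix f * s.map σ) = gramMatrix f := by
  apply Matrix.ext
  intro a b
  have h1 := h (Pi.single a 1) (Pi.single b 1)
  rw [hf.eq_formOfGram, hf.eq_formOfGram (Pi.single a 1)] at h1
  rw [mulVec_single_one, mulVec_single_one] at h1
  simp only [dotProduct, mulVec, Matrix.col_apply] at h1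
  simp only [Matrix.mul_apply, transpose_apply, Matrix.map_apply]
  refine h1.trans ?_
  simp [Pi.single_apply, apply_ite]

/-- invariant forms are unique up to scalars -/
theorem Sesq.proportional {σ : F ≃+* F} {P : Subgroup (GL ι F)} (htop : adj P = ⊤) {f f' : (ι → F) → (ι → F) → F}
    (hf : Sesq σ f) (hf' : Sesq σ f') (hnd : IsNondegenerateForm f) (h : FixesForm (matrixSet P) f)
    (h' : FixesForm (matrixSet P) f') : ∃ c : F, ∀ u v, f' u v = c * f u v := by
  obtain ⟨G, hG⟩ := hf.isUnit_gram hnd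
  set M := ((G⁻¹ : (Matrix ι ι F)ˣ) : Matrix ι ι F) * gramMatrix f' with hM
  have hfM : gramMatrix f * M = gramMatrix f' := by rw [hM, ← hG, Units.mul_inv_cancel_left]
  have hcomm : ∀ s ∈ P, M * (s : Matrix ι ι F).map σ = (s : Matrix ι ι F).map σ * M := by
    intro s hs
    have h1 := hf.gram_fixed (h _ ⟨s, hs, rfl⟩)
    have h2 := hf'.gram_fixed (h' _ ⟨s, hs, rfl⟩)
    have hsT : IsUnit (s : Matrix ι ι F)ᵀ := (Matrix.isUnit_transpose _).2 (Units.isUnit s)
    have hu : IsUnit (gramMatrix f) := hG ▸ G.isUnit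
    apply hu.mul_right_injective
    apply hsT.mul_right_injective
    show _ * (gramMatrix f * (M * _)) = _ * (gramMatrix f * (_ * M))
    rw [← mul_assoc (gramMatrix f), hfM, h2, ← mul_assoc (gramMatrix f), ← mul_assoc _ (_ * _), h1, hfM]
  obtain ⟨c, hc⟩ := scalar_of_commute htop (M := M.map σ.symm) fun s hs => by
    have := congrArg (fun X : Matrix ι ι F => X.map σ.symm) (hcomm s hs)
    simpa [Matrix.map_mul, Matrix.map_map, Function.comp_def] using this
  refine ⟨σ c, fun u v => ?_⟩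
  have hMc : M = σ c • 1 := by
    have := congrArg (fun X : Matrix ι ι F => X.map σ) hc
    simpa [Matrix.map_map, Function.comp_def, Matrix.map_smul', Matrix.map_one] using this
  rw [hf.eq_formOfGram, hf'.eq_formOfGram, ← hfM, hMc, mul_smul_comm, mul_one, smul_mulVec, dotProduct_smul, smul_eq_mul]

/-- the normaliser of a group fixing a form consists of similarities -/
theorem le_similarityGroup {σ : F ≃+* F} {P H : Subgroup (GL ι F)} (htop : adj P = ⊤)
    (hP : ∀ g ∈ H, ∀ x ∈ P, g * x * g⁻¹ ∈ P) {f : (ι → F) → (ι → F) → F} (hf : Sesq σ f) (hnd : IsNondegenerateForm f)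
    (h : FixesForm (matrixSet P) f) [Nonempty ι] : H ≤ similarityGroup f := by
  intro g hg
  set f' : (ι → F) → (ι → F) → F := fun u v => f ((g : Matrix ι ι F) *ᵥ u) ((g : Matrix ι ι F) *ᵥ v)
  have hf' : Sesq σ f' := ⟨fun x y v => by simp [f', mulVec_add, hf.add_left], fun c x v => by
    simp [f', mulVec_smul, hf.smul_left], fun v x y => by simp [f', mulVec_add, hf.add_right], fun c v x => by
    simp [f', mulVec_smul, hf.smul_right]⟩
  have h' : FixesForm (matrixSet P) f' := by
    rintro _ ⟨x, hx, rfl⟩ u v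
    have := h _ ⟨_, hP g hg x hx, rfl⟩ ((g : Matrix ι ι F) *ᵥ u) ((g : Matrix ι ι F) *ᵥ v)
    simpa [f', mulVec_mulVec, mul_assoc] using this
  obtain ⟨c, hc⟩ := hf.proportional htop hf' hnd h h'
  have hc0 : c ≠ 0 := by
    intro h0
    obtain ⟨i⟩ := ‹Nonempty ι›
    have hne : (Pi.single i 1 : ι → F) ≠ 0 := fun he => one_ne_zero (α := F) (by simpa using congrFun he i)
    obtain ⟨x, hx⟩ := (hnd _ hne).1
    have := hc (((g⁻¹ : GL ι F) : Matrix ι ι F) *ᵥ x) (((g⁻¹ : GL ι F) : Matrix ι ι F) *ᵥ Pi.single i 1)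
    simp only [f', mulVec_mulVec, Units.mul_inv, one_mulVec, h0, zero_mul] at this
    exact hx this
  exact ⟨Units.mk0 c hc0, hc⟩

/-- the normaliser of a group realised over a subfield lies in a maximal subfield group -/
theorem exists_subfield {n : ℕ} [Fintype F] (hn : 0 < n) {P H : Subgroup (GL (Fin n) F)} (htop : adj P = ⊤)
    (hP : ∀ g ∈ H, ∀ x ∈ P, g * x * g⁻¹ ∈ P) {F₀ : Subfield F} (hF : F₀ ≠ ⊤)
    (h : RealisableOver F₀ (matrixSet P)) :
    ∃ (F₁ : Subfield F) (r : ℕ) (B : GL (Fin n) F), r.Prime ∧ Fintype.card F = Nat.card F₁ ^ r ∧ F₁ ≠ ⊤ ∧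
      H ≤ subfieldSubgroup F₁ B := by
  classical
  obtain ⟨B, hB⟩ := h
  obtain ⟨F₁, hF₁, hmax⟩ := Set.exists_max_image {E : Subfield F | F₀ ≤ E ∧ E ≠ ⊤} (fun E => Nat.card E)
    (Set.toFinite _) ⟨F₀, le_rfl, hF⟩
  have hk : 2 ≤ Module.finrank F₁ F := by
    by_contra hlt
    refine hF₁.2 (eq_top_iff.2 fun x _ => ?_)
    have h1 : Module.finrank F₁ F = 1 := by have := Module.finrank_pos (R := F₁) (M := F); omega
    obtain ⟨c, hc⟩ := (finrank_eq_one_iff_of_nonzero' (1 : F) one_ne_zero).1 h1 x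
    rw [← hc, Subfield.smul_def, smul_eq_mul, mul_one]; exact c.2
  set r := Nat.minFac (Module.finrank F₁ F)
  have hr : r.Prime := Nat.minFac_prime (by omega)
  haveI := Fact.mk hr
  obtain ⟨τ, hτ⟩ := exists_prime_orderOf_dvd_card' (G := F ≃ₐ[F₁] F) r
    (by rw [IsGalois.card_aut_eq_finrank]; exact Nat.minFac_dvd _)
  set E := IntermediateField.fixedField (Subgroup.zpowers τ)
  have hEr : Module.finrank E F = r := by
    rw [IntermediateField.finrank_fixedField_eq_card, Nat.card_zpowers, hτ]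
  have hEne : E.toSubfield ≠ ⊤ := by
    intro hc
    have : E = ⊤ := IntermediateField.toSubfield_injective (hc.trans (IntermediateField.top_toSubfield).symm)
    rw [this, IntermediateField.finrank_top] at hEr
    exact hr.one_lt.ne hEr
  have hle : F₁ ≤ E.toSubfield := fun x hx => E.algebraMap_mem ⟨x, hx⟩
  have heq : F₁ = E.toSubfield := SetLike.coe_injective (Set.eq_of_subset_of_ncard_le hle (by
    simpa [← Nat.card_coe_set_eq] using hmax E.toSubfield ⟨hF₁.1.trans hle, hEne⟩) (Set.toFinite _))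
  have hcard : Fintype.card F = Nat.card F₁ ^ r := by
    rw [← Nat.card_eq_fintype_card, Module.natCard_eq_pow_finrank (K := E) (V := F), hEr]
    exact (congrArg (fun S : Subfield F => Nat.card S ^ r) heq).symm
  refine ⟨F₁, r, B⁻¹, hr, hcard, hF₁.2, fun g hg => ?_⟩
  let j : Matrix (Fin n) (Fin n) F₁ →ₐ[F₁] Matrix (Fin n) (Fin n) F := (Algebra.ofId F₁ F).mapMatrix
  have hj : Function.Injective j := fun a b hab => Matrix.ext fun r s => Subtype.ext (congrFun₂ hab r s)
  let g' : GL (Fin n) F := B * g * B⁻¹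
  let T : Set (Matrix (Fin n) (Fin n) F₁) := {X | ∃ x ∈ P, j X = cjA B (x : Matrix (Fin n) (Fin n) F)}
  have hlift : ∀ x ∈ P, ∃ X ∈ T, j X = cjA B (x : Matrix (Fin n) (Fin n) F) := by
    intro x hx
    refine ⟨Matrix.of fun a b => (⟨cjA B (x : Matrix (Fin n) (Fin n) F) a b, hF₁.1 ?_⟩ : F₁), ⟨x, hx, ?_⟩, ?_⟩
    · exact hB _ ⟨x, hx, rfl⟩ a b
    · exact Matrix.ext fun a b => rfl
    · exact Matrix.ext fun a b => rfl
  have hW : Submodule.span F₁ T = ⊤ := by
    apply Submodule.eq_top_of_finrank_eq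
    refine le_antisymm (Submodule.finrank_le _) ?_
    let b := Module.finBasis F₁ (Submodule.span F₁ T)
    have hsp : (⊤ : Submodule F (Matrix (Fin n) (Fin n) F)) ≤ Submodule.span F (Set.range fun k => j (b k : Matrix (Fin n) (Fin n) F₁)) := by
      intro y _
      have hy : cjA B⁻¹ y ∈ Submodule.span F (matrixSet P) := by
        have : Submodule.span F (matrixSet P) = Subalgebra.toSubmodule (adj P) := by
          rw [Algebra.adjoin_eq_span]
          congr 1
          refine Set.Subset.antisymm Submonoid.subset_closure ?_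
          intro z hz
          induction hz using Submonoid.closure_induction with
          | mem y hy => exact hy
          | one => exact ⟨1, P.one_mem, rfl⟩
          | mul a b _ _ ha hb =>
            obtain ⟨x, hx, rfl⟩ := ha; obtain ⟨z, hz, rfl⟩ := hb
            exact ⟨x * z, P.mul_mem hx hz, rfl⟩
        rw [this, htop, Algebra.top_toSubmodule]; trivial
      have h2 : cjA B (cjA B⁻¹ y) ∈ (Submodule.span F (matrixSet P)).map (cjA B).toLinearMap := ⟨_, hy, rfl⟩
      rw [Submodule.map_span, show cjA B (cjA B⁻¹ y) = y by simp [mul_assoc]] at h2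
      refine Submodule.span_le.2 ?_ h2
      rintro _ ⟨_, ⟨x, hx, rfl⟩, rfl⟩
      obtain ⟨X, hX, hjX⟩ := hlift x hx
      have hXb := b.sum_repr ⟨X, Submodule.subset_span hX⟩
      show cjA B (x : Matrix (Fin n) (Fin n) F) ∈ Submodule.span F _
      rw [← hjX, show X = ((⟨X, Submodule.subset_span hX⟩ : Submodule.span F₁ T) : Matrix (Fin n) (Fin n) F₁) from rfl,
        ← hXb, Submodule.coe_sum, map_sum]
      refine Submodule.sum_mem _ fun k _ => ?_
      rw [Submodule.coe_smul, map_smul, ← algebraMap_smul F]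
      exact Submodule.smul_mem _ _ (Submodule.subset_span ⟨k, rfl⟩)
    have h3 := (Submodule.finrank_mono hsp).trans (finrank_range_le_card (R := F) fun k => j (b k : Matrix (Fin n) (Fin n) F₁))
    simpa [Module.finrank_matrix] using h3
  have hinv : ∀ X, cjA g' (j X) ∈ j.range := by
    intro X
    have hX : X ∈ Submodule.span F₁ T := hW ▸ Submodule.mem_top
    induction hX using Submodule.span_induction with
    | mem X hX =>
      obtain ⟨x, hx, hjX⟩ := hX
      obtain ⟨Y, -, hY⟩ := hlift _ (hP g hg x hx)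
      refine ⟨Y, ?_⟩
      show j Y = _
      rw [hY, hjX]
      simp [g', mul_assoc]
    | zero => rw [map_zero, map_zero]; exact zero_mem _
    | add a b _ _ ha hb => rw [map_add, map_add]; exact add_mem ha hb
    | smul c a _ ha =>
      rw [map_smul, ← algebraMap_smul F, map_smul, algebraMap_smul]
      exact Subalgebra.smul_mem _ ha c
  let ψ : Matrix (Fin n) (Fin n) F₁ →ₐ[F₁] Matrix (Fin n) (Fin n) F₁ :=
    (AlgEquiv.ofInjective j hj).symm.toAlgHom.comp ((((cjA g').toAlgHom.restrictScalars F₁).comp j).codRestrict j.range hinv)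
  have hψ : ∀ X, j (ψ X) = cjA g' (j X) := fun X =>
    congrArg Subtype.val ((AlgEquiv.ofInjective j hj).apply_symm_apply _)
  obtain ⟨Q, hQ⟩ := exists_inner hn ψ
  let g₀ : GL (Fin n) F := Matrix.GeneralLinearGroup.map (F₁.subtype : F₁ →+* F) Q
  have hval : (g₀ : Matrix (Fin n) (Fin n) F) = j (Q : Matrix (Fin n) (Fin n) F₁) := rfl
  have hval' : ((g₀⁻¹ : GL (Fin n) F) : Matrix (Fin n) (Fin n) F) = j ((Q⁻¹ : GL (Fin n) F₁) : Matrix (Fin n) (Fin n) F₁) := rfl
  obtain ⟨c, hc⟩ : ∃ c : F, ((g₀⁻¹ * g' : GL (Fin n) F) : Matrix (Fin n) (Fin n) F) = c • 1 := by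
    obtain ⟨c, hc⟩ : ((g₀⁻¹ * g' : GL (Fin n) F) : Matrix (Fin n) (Fin n) F) ∈ Set.range (Matrix.scalar (Fin n)) := by
      refine Matrix.mem_range_scalar_of_commute_single fun a b _ => ?_
      have hs : j (Matrix.single a b 1) = Matrix.single a b (1 : F) :=
        Matrix.map_single a b _ (Algebra.ofId F₁ F) |>.trans (by rw [map_one])
      have h1 := hψ (Matrix.single a b 1)
      rw [hQ, map_mul, map_mul, hs, ← hval, cjA_apply] at h1
      have h2 := congrArg (fun y => ((g₀⁻¹ : GL (Fin n) F) : Matrix (Fin n) (Fin n) F) * y * (g' : Matrix (Fin n) (Fin n) F)) h1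
      simp only [← hval', mul_assoc, Units.inv_mul_cancel_left, Units.inv_mul, mul_one] at h2
      show Matrix.single a b (1 : F) * _ = _
      rw [Units.val_mul]
      simpa [mul_assoc] using h2
    exact ⟨c, by rw [← hc]; simp [Matrix.smul_one_eq_diagonal]⟩
  haveI : Nonempty (Fin n) := ⟨⟨0, hn⟩⟩
  refine ⟨g₀ * (g₀⁻¹ * g'), mul_mem (Subgroup.mem_sup_left ⟨Q, rfl⟩) (Subgroup.mem_sup_right (mem_scalars_of_val hc)), ?_⟩
  simp [g', mul_assoc]

end Cfsg.Agent.Lib.SLTwoPrime
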