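import Cfsg.Agent.Lib.SLTwoPrime.Algebra

/-! Decompositions over very small fields, subfields of degree two. -/

set_option autoImplicit false

namespace Cfsg.Agent.Lib.SLTwoPrime

open Cfsg.Geo Matrix
open scoped MatrixGroups Kronecker

variable {ι : Type} [Fintype ι] [DecidableEq ι] {F : Type*} [Field F]

/-- coordinates adapted to a decomposition -/
theorem decomp_coords {t m : ℕ} {D : Fin t → Submodule F (ι → F)} (hD : IsMDecomposition m D) :
    ∃ b : Module.Basis (Fin t × Fin m) F (ι → F), ∀ h ∈ decompositionStabilizer D,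
      ∃ (σ : Equiv.Perm (Fin t)) (M : Fin t → (Fin m → F) →ₗ[F] (Fin m → F)), (∀ i, Function.Injective (M i)) ∧
        ∀ v i k, b.repr ((h : Matrix ι ι F) *ᵥ v) (σ i, k) = M i (fun l => b.repr v (i, l)) k := by
  classical
  have hint : DirectSum.IsInternal D := (DirectSum.isInternal_submodule_iff_iSupIndep_and_iSup_eq_top D).2 ⟨hD.indep, hD.iSup_eq_top⟩
  let bi : ∀ i, Module.Basis (Fin m) F (D i) := fun i => Module.finBasisOfFinrankEq F (D i) (hD.finrank_eq i)
  let b : Module.Basis (Fin t × Fin m) F (ι → F) := (hint.collectedBasis bi).reindex (Equiv.sigmaEquivProd _ _)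
  have hbv : ∀ i l, b (i, l) = (bi i l : ι → F) := fun i l => by
    simp [b, DirectSum.IsInternal.collectedBasis_coe]; rfl
  have hb : ∀ i l, b (i, l) ∈ D i := fun i l => hbv i l ▸ (bi i l).2
  have hzero : ∀ i, ∀ v ∈ D i, ∀ j k, j ≠ i → b.repr v (j, k) = 0 := by
    intro i v hv j k hji
    have hv' : v ∈ Submodule.span F (Set.range fun l => b (i, l)) := by
      have := (bi i).sum_repr ⟨v, hv⟩
      have h2 := congrArg Subtype.val this
      simp only [Submodule.coe_sum, Submodule.coe_smul] at h2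
      rw [← h2]
      exact Submodule.sum_mem _ fun l _ => Submodule.smul_mem _ _ (Submodule.subset_span ⟨l, hbv i l⟩)
    clear hv
    induction hv' using Submodule.span_induction with
    | mem x hx => obtain ⟨l, rfl⟩ := hx; simp [Finsupp.single_apply, Prod.mk.injEq, Ne.symm hji]
    | zero => simp
    | add x y _ _ hx hy => simp [hx, hy]
    | smul c x _ hx => simp [hx]
  refine ⟨b, fun h ⟨σ, hσ⟩ => ?_⟩
  have hmv : ∀ i l, (h : Matrix ι ι F) *ᵥ b (i, l) ∈ D (σ i) := fun i l => by
    rw [← hσ i]; exact ⟨b (i, l), hb i l, toLin'_apply _ _⟩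
  let M : Fin t → (Fin m → F) →ₗ[F] (Fin m → F) := fun i =>
    { toFun := fun c k => b.repr ((h : Matrix ι ι F) *ᵥ ∑ l, c l • b (i, l)) (σ i, k)
      map_add' := fun c d => by funext k; simp [add_smul, Finset.sum_add_distrib, mulVec_add]
      map_smul' := fun r c => by
        funext k
        simp only [Pi.smul_apply, smul_eq_mul, mul_smul, ← Finset.smul_sum, mulVec_smul, map_smul, RingHom.id_apply, Finsupp.smul_apply] }
  refine ⟨σ, M, fun i => (injective_iff_map_eq_zero _).2 fun c hc => ?_, fun v i k => ?_⟩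
  · have h0 : b.repr ((h : Matrix ι ι F) *ᵥ ∑ l, c l • b (i, l)) = 0 := by
      ext ⟨j, k⟩
      by_cases hj : j = σ i
      · subst hj; exact congrFun hc k
      · refine hzero (σ i) _ ?_ j k hj
        rw [mulVec_sum]
        exact Submodule.sum_mem _ fun l _ => by rw [mulVec_smul]; exact Submodule.smul_mem _ _ (hmv i l)
    rw [LinearEquiv.map_eq_zero_iff] at h0
    have h1 : ∑ l, c l • b (i, l) = 0 := by
      have := congrArg (((h⁻¹ : GL ι F) : Matrix ι ι F) *ᵥ ·) h0
      simpa [mulVec_mulVec] using this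
    exact funext fun l => Fintype.linearIndependent_iff.1 (b.linearIndependent.comp (fun l => (i, l))
      (fun a a' e => (Prod.mk.inj e).2)) c h1 l
  · show _ = b.repr ((h : Matrix ι ι F) *ᵥ ∑ l, b.repr v (i, l) • b (i, l)) (σ i, k)
    conv_lhs => rw [← b.sum_repr v, Fintype.sum_prod_type, mulVec_sum, map_sum, Finsupp.finsetSum_apply]
    refine Finset.sum_eq_single i (fun j _ hj => ?_) (by simp)
    refine hzero (σ j) _ ?_ (σ i) k (fun e => hj (σ.injective e).symm)
    rw [mulVec_sum]
    exact Submodule.sum_mem _ fun l _ => by rw [mulVec_smul]; exact Submodule.smul_mem _ _ (hmv j l)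

/-- a sum of local invariant forms is invariant -/
theorem sum_invariant {t m : ℕ} {b : Module.Basis (Fin t × Fin m) F (ι → F)} {h : GL ι F} {σ : Equiv.Perm (Fin t)}
    {M : Fin t → (Fin m → F) →ₗ[F] (Fin m → F)}
    (hrep : ∀ v i k, b.repr ((h : Matrix ι ι F) *ᵥ v) (σ i, k) = M i (fun l => b.repr v (i, l)) k)
    (g : (Fin m → F) → (Fin m → F) → F) (hg : ∀ i x y, g (M i x) (M i y) = g x y) (u v : ι → F) :
    (∑ i, g (fun k => b.repr ((h : Matrix ι ι F) *ᵥ u) (i, k)) (fun k => b.repr ((h : Matrix ι ι F) *ᵥ v) (i, k))) =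
      ∑ i, g (fun k => b.repr u (i, k)) (fun k => b.repr v (i, k)) := by
  rw [← Equiv.sum_comp σ]
  exact Finset.sum_congr rfl fun i _ => by rw [funext (hrep u i), funext (hrep v i)]; exact hg i _ _

lemma two_cases [Fintype F] (hq : Fintype.card F = 2) (x : F) : x = 0 ∨ x = 1 := by
  classical
  by_contra hc
  push Not at hc
  have : ({0, 1, x} : Finset F).card ≤ 2 := hq ▸ Finset.card_le_univ _
  rw [Finset.card_eq_three.2 ⟨0, 1, x, zero_ne_one, hc.1.symm, hc.2.symm, rfl⟩] at this
  omega

lemma two_char [Fintype F] (hq : Fintype.card F = 2) : (1 : F) + 1 = 0 := by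
  rcases two_cases hq (1 + 1) with h | h
  · exact h
  · simp at h

lemma four_cube [Fintype F] (hq : Fintype.card F = 4) {x : F} (hx : x ≠ 0) : x ^ 3 = 1 := by
  have := FiniteField.pow_card_sub_one_eq_one x hx
  rwa [hq] at this

lemma three_square [Fintype F] (hq : Fintype.card F = 3) {x : F} (hx : x ≠ 0) : x ^ 2 = 1 := by
  have := FiniteField.pow_card_sub_one_eq_one x hx
  rwa [hq] at this

/-- over two elements a decomposition into lines has a fixed vector -/
theorem lines_two [Fintype F] (hq : Fintype.card F = 2) {t : ℕ} {D : Fin t → Submodule F (ι → F)}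
    (hD : IsMDecomposition 1 D) (hn : 2 ≤ Fintype.card ι) {H : Subgroup (GL ι F)} (hH : H ≤ decompositionStabilizer D) :
    ¬ ActsIrreducibly (matrixSet H) := by
  intro hirr
  obtain ⟨b, hb⟩ := decomp_coords hD
  set v : ι → F := ∑ p, b p with hv
  have hrep : ∀ p, b.repr v p = 1 := fun p => by simp [hv, map_sum, Finsupp.finsetSum_apply, Finsupp.single_apply]
  have hv0 : v ≠ 0 := fun h0 => by
    have := hrep (⟨0, by have := hD.two_le; omega⟩, 0)
    simp [h0] at this
  rcases eq_bot_or_top hirr (Submodule.span F {v}) (fun g hg x hx => by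
    obtain ⟨c, rfl⟩ := Submodule.mem_span_singleton.1 hx
    obtain ⟨σ, M, hM, hr⟩ := hb g (hH hg)
    rw [mulVec_smul]
    refine Submodule.smul_mem _ _ (Submodule.mem_span_singleton.2 ⟨1, ?_⟩)
    rw [one_smul]
    apply b.repr.injective
    ext ⟨j, k⟩
    rw [hrep, show j = σ (σ.symm j) by simp, hr]
    symm
    rcases two_cases hq (M (σ.symm j) (fun l => b.repr v (σ.symm j, l)) k) with h | h
    · exfalso
      have : (fun l => b.repr v (σ.symm j, l)) = 0 := hM (σ.symm j) (by
        rw [map_zero]; funext k'; rw [Subsingleton.elim k' k]; exact h)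
      exact one_ne_zero ((hrep (σ.symm j, k)).symm.trans (congrFun this k))
    · exact h) with h | h
  · exact hv0 (by simpa using h)
  · have := finrank_span_singleton (K := F) hv0
    rw [h, finrank_top, Module.finrank_fintype_fun_eq_card] at this
    omega

/-- over three elements a decomposition into lines fixes a quadratic form -/
theorem lines_three [Fintype F] (hq : Fintype.card F = 3) {t : ℕ} {D : Fin t → Submodule F (ι → F)}
    (hD : IsMDecomposition 1 D) {H : Subgroup (GL ι F)} (hH : H ≤ decompositionStabilizer D) :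
    ∃ Q : (ι → F) → F, IsNondegenerateQuadraticForm Q ∧ H ≤ quadSimilarityGroup Q := by
  classical
  obtain ⟨b, hb⟩ := decomp_coords hD
  have h2 : (2 : F) ≠ 0 := by
    intro h
    have h3 : ((Fintype.card F : ℕ) : F) = 0 := Nat.cast_card_eq_zero F
    rw [hq, Nat.cast_ofNat] at h3
    exact one_ne_zero (show (1 : F) = 0 by linear_combination h3 - h)
  let Q : (ι → F) → F := fun v => ∑ i, b.repr v (i, 0) * b.repr v (i, 0)
  have hpol : ∀ u v, QuadraticMap.polar Q u v = ∑ i, 2 * (b.repr u (i, 0) * b.repr v (i, 0)) := by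
    intro u v
    simp only [QuadraticMap.polar, Q, map_add, Finsupp.add_apply, ← Finset.sum_sub_distrib]
    exact Finset.sum_congr rfl fun i _ => by ring
  refine ⟨Q, ⟨fun c v => ?_, ⟨?_, ?_, ?_, ?_⟩, fun v hv => ?_⟩, fun g hg => ⟨1, fun v => ?_⟩⟩
  · simp only [Q, map_smul, Finsupp.smul_apply, smul_eq_mul, Finset.mul_sum]
    exact Finset.sum_congr rfl fun i _ => by ring
  · intro x y v; rw [hpol, hpol, hpol, ← Finset.sum_add_distrib]; exact Finset.sum_congr rfl fun i _ => by simp only [map_add, Finsupp.add_apply]; ring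
  · intro c x v; rw [hpol, hpol, Finset.mul_sum]; exact Finset.sum_congr rfl fun i _ => by simp only [map_smul, Finsupp.smul_apply, smul_eq_mul]; ring
  · intro v x y; rw [hpol, hpol, hpol, ← Finset.sum_add_distrib]; exact Finset.sum_congr rfl fun i _ => by simp only [map_add, Finsupp.add_apply]; ring
  · intro c v x; rw [hpol, hpol, Finset.mul_sum]; exact Finset.sum_congr rfl fun i _ => by simp only [map_smul, Finsupp.smul_apply, smul_eq_mul]; ring
  · obtain ⟨i, hi⟩ : ∃ i, b.repr v (i, 0) ≠ 0 := by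
      by_contra hc; push Not at hc
      exact hv (b.repr.injective (by ext ⟨i, k⟩; rw [Subsingleton.elim k 0, hc, map_zero, Finsupp.zero_apply]))
    refine ⟨⟨b (i, 0), ?_⟩, ⟨b (i, 0), ?_⟩⟩ <;>
    · rw [hpol, Finset.sum_eq_single i (fun j _ hj => by simp [Finsupp.single_apply, hj.symm]) (by simp)]
      simp [h2, hi]
  · obtain ⟨σ, M, hM, hr⟩ := hb g (hH hg)
    rw [Units.val_one, one_mul]
    refine sum_invariant hr (fun x y => x 0 * y 0) (fun i x y => ?_) v v
    have hlin : ∀ z : Fin 1 → F, M i z 0 = z 0 * M i 1 0 := fun z => by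
      have : z = z 0 • (1 : Fin 1 → F) := funext fun k => by simp [Subsingleton.elim k 0]
      conv_lhs => rw [this, map_smul, Pi.smul_apply, smul_eq_mul]
    have hne : M i 1 0 ≠ 0 := fun h0 => one_ne_zero (α := F) (congrFun (hM i (by
      rw [map_zero]; funext k; rw [Subsingleton.elim k 0]; exact h0) : (1 : Fin 1 → F) = 0) 0)
    rw [hlin x, hlin y]
    linear_combination (x 0 * y 0) * three_square hq hne

/-- over four elements a decomposition into lines fixes a unitary form -/
theorem lines_four [Fintype F] (hq : Fintype.card F = 4) {t : ℕ} {D : Fin t → Submodule F (ι → F)}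
    (hD : IsMDecomposition 1 D) {H : Subgroup (GL ι F)} (hH : H ≤ decompositionStabilizer D) :
    ∃ (s : F ≃+* F) (f : (ι → F) → (ι → F) → F), IsUnitaryForm s f ∧ H ≤ similarityGroup f := by
  classical
  obtain ⟨b, hb⟩ := decomp_coords hD
  have h2 : (2 : F) = 0 := by
    have h4 : ((Fintype.card F : ℕ) : F) = 0 := Nat.cast_card_eq_zero F
    rw [hq, Nat.cast_ofNat] at h4
    exact mul_self_eq_zero.1 (by linear_combination h4)
  have hp4 : ∀ x : F, x ^ 4 = x := fun x => by
    have := FiniteField.pow_card x; rwa [hq] at this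
  let s : F ≃+* F :=
    { toFun := fun x => x ^ 2
      invFun := fun x => x ^ 2
      left_inv := fun x => by show (x ^ 2) ^ 2 = x; rw [← pow_mul]; exact hp4 x
      right_inv := fun x => by show (x ^ 2) ^ 2 = x; rw [← pow_mul]; exact hp4 x
      map_mul' := fun x y => mul_pow x y 2
      map_add' := fun x y => by linear_combination (x * y) * h2 }
  have hs : ∀ x, s x = x ^ 2 := fun x => rfl
  let f : (ι → F) → (ι → F) → F := fun u v => ∑ i, b.repr u (i, 0) * s (b.repr v (i, 0))
  have hherm : ∀ u v, f u v = s (f v u) := fun u v => by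
    simp only [f, map_sum, map_mul, s.left_inv']
    exact Finset.sum_congr rfl fun i _ => by rw [show s (s (b.repr u (i, 0))) = b.repr u (i, 0) from s.left_inv _, mul_comm]
  refine ⟨s, f, ⟨fun hc => ?_, s.left_inv, ?_, ?_, hherm, fun v hv => ?_⟩, fun g hg => ⟨1, fun u v => ?_⟩⟩
  · have hfix : ∀ x : F, x = 0 ∨ x = 1 := fun x => by
      have h : x ^ 2 = x := by rw [← hs, hc]; rfl
      rcases mul_eq_zero.1 (show x * (x - 1) = 0 by linear_combination h) with h | h
      · exact Or.inl h
      · exact Or.inr (sub_eq_zero.1 h)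
    have : (Finset.univ : Finset F) ⊆ {0, 1} := fun x _ => by simpa using hfix x
    have := (Finset.card_le_card this).trans Finset.card_le_two
    rw [Finset.card_univ, hq] at this
    omega
  · intro x y v; simp only [f, map_add, Finsupp.add_apply, add_mul, Finset.sum_add_distrib]
  · intro c x v; simp only [f, map_smul, Finsupp.smul_apply, smul_eq_mul, Finset.mul_sum, mul_assoc]
  · obtain ⟨i, hi⟩ : ∃ i, b.repr v (i, 0) ≠ 0 := by
      by_contra hc; push Not at hc
      exact hv (b.repr.injective (by ext ⟨i, k⟩; rw [Subsingleton.elim k 0, hc, map_zero, Finsupp.zero_apply]))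
    have h1 : f v (b (i, 0)) ≠ 0 := by
      simp only [f]
      rw [Finset.sum_eq_single i (fun j _ hj => by simp [Finsupp.single_apply, hj.symm]) (by simp)]
      simp [hi]
    refine ⟨⟨b (i, 0), fun h0 => h1 ?_⟩, ⟨b (i, 0), h1⟩⟩
    rw [hherm, h0, map_zero]
  · obtain ⟨σ, M, hM, hr⟩ := hb g (hH hg)
    rw [Units.val_one, one_mul]
    refine sum_invariant hr (fun x y => x 0 * s (y 0)) (fun i x y => ?_) u v
    have hlin : ∀ z : Fin 1 → F, M i z 0 = z 0 * M i 1 0 := fun z => by
      have : z = z 0 • (1 : Fin 1 → F) := funext fun k => by simp [Subsingleton.elim k 0]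
      conv_lhs => rw [this, map_smul, Pi.smul_apply, smul_eq_mul]
    have hne : M i 1 0 ≠ 0 := fun h0 => one_ne_zero (α := F) (congrFun (hM i (by
      rw [map_zero]; funext k; rw [Subsingleton.elim k 0]; exact h0) : (1 : Fin 1 → F) = 0) 0)
    rw [hlin x, hlin y, hs, hs]
    linear_combination (x 0 * y 0 ^ 2) * four_cube hq hne

/-- over two elements a decomposition into planes fixes a symplectic form -/
theorem planes_two [Fintype F] (hq : Fintype.card F = 2) {t : ℕ} {D : Fin t → Submodule F (ι → F)}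
    (hD : IsMDecomposition 2 D) {H : Subgroup (GL ι F)} (hH : H ≤ decompositionStabilizer D) :
    ∃ f : (ι → F) → (ι → F) → F, IsSymplecticForm f ∧ H ≤ similarityGroup f := by
  classical
  obtain ⟨b, hb⟩ := decomp_coords hD
  have hneg : ∀ x : F, -x = x := fun x => by linear_combination (-x) * two_char hq
  let d : (Fin 2 → F) → (Fin 2 → F) → F := fun x y => x 0 * y 1 + x 1 * y 0
  let f : (ι → F) → (ι → F) → F := fun u v => ∑ i, d (fun k => b.repr u (i, k)) (fun k => b.repr v (i, k))
  refine ⟨f, ⟨⟨?_, ?_, ?_, ?_⟩, fun u v => ?_, fun v => ?_, fun v hv => ?_⟩, fun g hg => ⟨1, fun u v => ?_⟩⟩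
  · intro x y v; simp only [f, d, map_add, Finsupp.add_apply, ← Finset.sum_add_distrib]; exact Finset.sum_congr rfl fun i _ => by ring
  · intro c x v; simp only [f, d, map_smul, Finsupp.smul_apply, smul_eq_mul, Finset.mul_sum]; exact Finset.sum_congr rfl fun i _ => by ring
  · intro v x y; simp only [f, d, map_add, Finsupp.add_apply, ← Finset.sum_add_distrib]; exact Finset.sum_congr rfl fun i _ => by ring
  · intro c v x; simp only [f, d, map_smul, Finsupp.smul_apply, smul_eq_mul, Finset.mul_sum]; exact Finset.sum_congr rfl fun i _ => by ring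
  · rw [hneg]; exact Finset.sum_congr rfl fun i _ => by simp only [d]; ring
  · exact Finset.sum_eq_zero fun i _ => by simp only [d]; linear_combination (b.repr v (i, 0) * b.repr v (i, 1)) * two_char hq
  · obtain ⟨i, k, hik⟩ : ∃ i k, b.repr v (i, k) ≠ 0 := by
      by_contra hc; push Not at hc
      exact hv (b.repr.injective (by ext ⟨i, k⟩; rw [hc, map_zero, Finsupp.zero_apply]))
    have h1 : ∀ k', f v (b (i, k')) = d (fun l => b.repr v (i, l)) (fun l => b.repr (b (i, k')) (i, l)) := fun k' => by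
      simp only [f]
      exact Finset.sum_eq_single i (fun j _ hj => by simp [d, Finsupp.single_apply, hj.symm]) (by simp)
    have hsym : ∀ u w, f u w = f w u := fun u w => Finset.sum_congr rfl fun j _ => by simp only [d]; ring
    obtain ⟨k', hk'⟩ : ∃ k', f v (b (i, k')) ≠ 0 := by
      by_cases hk : k = 0
      · subst hk; exact ⟨1, by rw [h1]; simp [d, Finsupp.single_apply, hik]⟩
      · obtain rfl : k = 1 := by omega
        exact ⟨0, by rw [h1]; simp [d, Finsupp.single_apply, hik]⟩
    exact ⟨⟨_, hsym v _ ▸ hk'⟩, ⟨_, hk'⟩⟩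
  · obtain ⟨σ, M, hM, hr⟩ := hb g (hH hg)
    rw [Units.val_one, one_mul]
    refine sum_invariant hr d (fun i x y => ?_) u v
    have hA : (LinearMap.toMatrix' (M i)).det = 1 := by
      refine (two_cases hq _).resolve_left fun h0 => ?_
      obtain ⟨z, hz, hz0⟩ := Matrix.exists_mulVec_eq_zero_iff.2 h0
      rw [← Matrix.toLin'_apply, Matrix.toLin'_toMatrix'] at hz0
      exact hz (hM i (hz0.trans (map_zero _).symm))
    have hMx : ∀ z, M i z = LinearMap.toMatrix' (M i) *ᵥ z := fun z => by
      rw [← Matrix.toLin'_apply, Matrix.toLin'_toMatrix']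
    rw [Matrix.det_fin_two] at hA
    simp only [d, hMx, mulVec, dotProduct, Fin.sum_univ_two]
    set A := LinearMap.toMatrix' (M i)
    linear_combination (x 0 * y 1 + x 1 * y 0) * hA + (A 0 1 * A 1 0 * (x 0 * y 1 + x 1 * y 0) + A 0 0 * A 1 0 * x 0 * y 0 + A 0 1 * A 1 1 * x 1 * y 1) * two_char hq

/-- over two elements the two-dimensional linear group normalises a field of four elements -/
theorem two_by_two [Fintype F] (hq : Fintype.card F = 2) (a : GL (Fin 2) F) :
    (a : Matrix (Fin 2) (Fin 2) F) * !![0, 1; 1, 1] = !![0, 1; 1, 1] * (a : Matrix (Fin 2) (Fin 2) F) ∨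
    (a : Matrix (Fin 2) (Fin 2) F) * !![0, 1; 1, 1] = (1 + !![0, 1; 1, 1]) * (a : Matrix (Fin 2) (Fin 2) F) := by
  have hdet : (a : Matrix (Fin 2) (Fin 2) F).det ≠ 0 := by
    rw [← isUnit_iff_ne_zero]; exact (Matrix.isUnit_iff_isUnit_det _).1 (Units.isUnit a)
  rw [Matrix.det_fin_two] at hdet
  have h2 := two_char hq
  rw [Matrix.eta_fin_two (a : Matrix (Fin 2) (Fin 2) F), Matrix.one_fin_two]
  rcases two_cases hq ((a : Matrix (Fin 2) (Fin 2) F) 0 0) with h00 | h00 <;>
  rcases two_cases hq ((a : Matrix (Fin 2) (Fin 2) F) 0 1) with h01 | h01 <;>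
  rcases two_cases hq ((a : Matrix (Fin 2) (Fin 2) F) 1 0) with h10 | h10 <;>
  rcases two_cases hq ((a : Matrix (Fin 2) (Fin 2) F) 1 1) with h11 | h11 <;>
  simp [h00, h01, h10, h11, h2, ← Matrix.ext_iff, Fin.forall_fin_two] at hdet ⊢

/-- a field of degree `2m` contains a normalised field of degree two -/
theorem exists_quadratic [Fintype F] {m : ℕ} (hm : 0 < m) {K : Subalgebra F (Matrix ι ι F)}
    (hK : IsFieldSubalgebra (2 * m) K) [Nonempty ι] {H : Subgroup (GL ι F)} (hH : Inv H K) :
    ∃ K' : Subalgebra F (Matrix ι ι F), IsFieldSubalgebra 2 K' ∧ Inv H K' := by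
  classical
  have hnt : Nontrivial K := inferInstance
  let hfield : IsField K := ⟨exists_pair_ne K, fun x y => Subtype.ext (hK.comm x x.2 y y.2), fun {x} hx => by
    obtain ⟨y, hy, hxy⟩ := hK.inv x x.2 (fun h => hx (Subtype.ext h))
    exact ⟨⟨y, hy⟩, Subtype.ext hxy⟩⟩
  letI : Field K := hfield.toField
  have : Module.Finite F K := inferInstance
  have : Finite K := Module.finite_of_finite F
  set fr := FiniteField.frobeniusAlgEquivOfAlgebraic F K
  have hord : orderOf fr = 2 * m := by
    rw [FiniteField.orderOf_frobeniusAlgEquivOfAlgebraic, hK.finrank_eq]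
  set E := IntermediateField.fixedField (Subgroup.zpowers (fr ^ 2))
  have hE : Module.finrank E K = m := by
    rw [IntermediateField.finrank_fixedField_eq_card, Nat.card_zpowers, orderOf_pow, hord]
    rw [Nat.gcd_mul_right_left, Nat.mul_div_cancel_left _ two_pos]
  have hE2 : Module.finrank F E = 2 := by
    have := Module.finrank_mul_finrank F E K
    rw [hE, hK.finrank_eq] at this
    exact Nat.eq_of_mul_eq_mul_right hm this
  have hmem : ∀ x : K, x ∈ E ↔ (x ^ Fintype.card F) ^ Fintype.card F = x := by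
    intro x
    rw [IntermediateField.mem_fixedField_iff]
    have h2 : (fr ^ 2) x = (x ^ Fintype.card F) ^ Fintype.card F := rfl
    constructor
    · intro h; rw [← h2]; exact h _ (Subgroup.mem_zpowers _)
    · intro h g hg
      have hle : Subgroup.zpowers (fr ^ 2) ≤ MulAction.stabilizer (K ≃ₐ[F] K) x := by
        rw [Subgroup.zpowers_le]; exact h2.trans h
      exact hle hg
  refine ⟨E.toSubalgebra.map K.val, ⟨?_, ?_, ?_⟩, ?_⟩
  · rintro _ ⟨x, -, rfl⟩ _ ⟨y, -, rfl⟩; exact hK.comm x x.2 y y.2
  · rintro _ ⟨x, hx, rfl⟩ hx0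
    refine ⟨_, ⟨x⁻¹, E.inv_mem hx, rfl⟩, ?_⟩
    rw [← map_mul, mul_inv_cancel₀ (fun h => hx0 (by rw [h]; rfl)), map_one]
  · rw [← hE2]
    exact ((E.toSubalgebra.equivMapOfInjective K.val Subtype.val_injective).toLinearEquiv.finrank_eq).symm
  · rintro h hh _ ⟨x, hx, rfl⟩
    refine ⟨⟨cjA h (x : Matrix ι ι F), hH h hh x x.2⟩, ?_, rfl⟩
    have hx' := (hmem x).1 hx
    refine (hmem _).2 (Subtype.ext ?_)
    have := congrArg (fun y : K => cjA h (y : Matrix ι ι F)) hx'
    simpa [SubmonoidClass.coe_pow, map_pow] using this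

end Cfsg.Agent.Lib.SLTwoPrime
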