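import Cfsg.Agent.Lib.SLTwoPrime.Proper
import Cfsg.Agent.Lib.SLTwoPrime.Forms
import Cfsg.Agent.Lib.SLTwoPrime.Small

/-! Maximal subgroups of the special linear group in dimension twice an odd prime. -/

set_option autoImplicit false

namespace Cfsg.Agent.Lib.SLTwoPrime

open Cfsg.Geo Matrix
open scoped MatrixGroups Kronecker

variable {F : Type*} [Field F] [Fintype F] {n : ℕ}

lemma eq_inf {H M : Subgroup (GL (Fin n) F)} (hH : IsMaximalIn (specialLinear (Fin n) F) H) (hle : H ≤ M)
    (hne : ¬ specialLinear (Fin n) F ≤ M) : H = M ⊓ specialLinear (Fin n) F :=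
  ((hH.2 _ (le_inf hle hH.1.le) inf_le_right).resolve_right fun h => hne (inf_eq_right.1 h)).symm

lemma le_decomposition_of {H : Subgroup (GL (Fin n) F)} {t t' : ℕ} (e : t = t') {D : Fin t → Submodule F (Fin n → F)}
    {m : ℕ} (hD : IsMDecomposition m D) (hH : H ≤ decompositionStabilizer D) :
    ∃ D' : Fin t' → Submodule F (Fin n → F), IsMDecomposition m D' ∧ H ≤ decompositionStabilizer D' := by
  subst e; exact ⟨D, hD, hH⟩

lemma le_normalizer_of_inv {H : Subgroup (GL (Fin n) F)} {K : Subalgebra F (Matrix (Fin n) (Fin n) F)}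
    (hK : Inv H K) : H ≤ subalgebraNormalizer K := by
  intro h hh k
  refine ⟨fun hk => hK h hh k hk, fun hk => ?_⟩
  have := hK h⁻¹ (inv_mem hh) _ hk
  simpa [mul_assoc] using this

/-- the degree of a field of matrices divides the dimension -/
lemma dvd_of_field_hom {K : Type*} [Field K] [Algebra F K] (φ : K →ₐ[F] Matrix (Fin n) (Fin n) F) :
    Module.finrank F K ∣ n := by
  letI : Module K (Fin n → F) :=
    Module.compHom _ ((Matrix.toLinAlgEquiv' : Matrix (Fin n) (Fin n) F ≃ₐ[F] _).toAlgHom.comp φ).toRingHom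
  haveI : IsScalarTower F K (Fin n → F) := ⟨fun c a v => by
    show (Matrix.toLinAlgEquiv' (φ (c • a))) v = c • (Matrix.toLinAlgEquiv' (φ a)) v
    simp [smul_mulVec]⟩
  have := Module.finrank_mul_finrank F K (Fin n → F)
  rw [Module.finrank_fintype_fun_eq_card, Fintype.card_fin] at this
  exact ⟨_, this.symm⟩

/-- an invariant field gives a subfield of degree two or `m` -/
lemma field_cases {m : ℕ} (hn : n = 2 * m) (hm : m.Prime) {H : Subgroup (GL (Fin n) F)}
    {A : Subalgebra F (Matrix (Fin n) (Fin n) F)} {r : ℕ} (hA : IsFieldSubalgebra r A) (hinv : Inv H A) :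
    r = 1 ∨ ∃ (r' : ℕ) (K : Subalgebra F (Matrix (Fin n) (Fin n) F)), (r' = 2 ∨ r' = m) ∧ IsFieldSubalgebra r' K ∧
      H ≤ subalgebraNormalizer K := by
  haveI : Nonempty (Fin n) := ⟨⟨0, by have := hm.two_le; omega⟩⟩
  let hfield : IsField A := ⟨exists_pair_ne A, fun x y => Subtype.ext (hA.comm x x.2 y y.2), fun {x} hx => by
    obtain ⟨y, hy, hxy⟩ := hA.inv x x.2 (fun h => hx (Subtype.ext h))
    exact ⟨⟨y, hy⟩, Subtype.ext hxy⟩⟩
  letI : Field A := hfield.toField
  have hdvd : r ∣ 2 * m := hn ▸ hA.finrank_eq ▸ dvd_of_field_hom A.val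
  obtain ⟨d₁, d₂, h₁, h₂, hdd⟩ := (Nat.dvd_mul).1 hdvd
  rcases (Nat.dvd_prime Nat.prime_two).1 h₁ with rfl | rfl <;> rcases (Nat.dvd_prime hm).1 h₂ with rfl | rfl
  · exact Or.inl (by omega)
  · exact Or.inr ⟨_, A, Or.inr rfl, by rwa [← hdd, one_mul] at hA, le_normalizer_of_inv hinv⟩
  · exact Or.inr ⟨_, A, Or.inl rfl, by rwa [← hdd] at hA, le_normalizer_of_inv hinv⟩
  · obtain ⟨K, hK, hKi⟩ := exists_quadratic hm.pos (hdd.symm ▸ hA) hinv
    exact Or.inr ⟨2, K, Or.inl rfl, hK, le_normalizer_of_inv hKi⟩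

/-- maximal subgroups in dimension twice an odd prime -/
theorem maximal_cases {m : ℕ} (hn : n = 2 * m) (hm : m.Prime) (hodd : Odd m) (H : Subgroup (GL (Fin n) F))
    (hH : IsMaximalIn (specialLinear (Fin n) F) H) :
    (∃ W : Submodule F (Fin n → F), W ≠ ⊥ ∧ W ≠ ⊤ ∧ H = subspaceStabilizer W ⊓ specialLinear (Fin n) F) ∨
    (5 ≤ Fintype.card F ∧ ∃ D : Fin n → Submodule F (Fin n → F), IsMDecomposition 1 D ∧
      H = decompositionStabilizer D ⊓ specialLinear (Fin n) F) ∨
    (3 ≤ Fintype.card F ∧ ∃ D : Fin m → Submodule F (Fin n → F), IsMDecomposition 2 D ∧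
      H = decompositionStabilizer D ⊓ specialLinear (Fin n) F) ∨
    (∃ D : Fin 2 → Submodule F (Fin n → F), IsMDecomposition m D ∧
      H = decompositionStabilizer D ⊓ specialLinear (Fin n) F) ∨
    (∃ K : Subalgebra F (Matrix (Fin n) (Fin n) F), IsFieldSubalgebra 2 K ∧
      H = subalgebraNormalizer K ⊓ specialLinear (Fin n) F) ∨
    (∃ K : Subalgebra F (Matrix (Fin n) (Fin n) F), IsFieldSubalgebra m K ∧
      H = subalgebraNormalizer K ⊓ specialLinear (Fin n) F) ∨
    (3 ≤ Fintype.card F ∧ ∃ (e : Fin n ≃ Fin 2 × Fin m) (P : GL (Fin n) F),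
      H = tensorProductSubgroup 2 m e P ⊓ specialLinear (Fin n) F) ∨
    (∃ (F₀ : Subfield F) (r : ℕ) (P : GL (Fin n) F), r.Prime ∧ Fintype.card F = Nat.card F₀ ^ r ∧
      H = subfieldSubgroup F₀ P ⊓ specialLinear (Fin n) F) ∨
    (Odd (Fintype.card F) ∧ ∃ Q : (Fin n → F) → F, IsNondegenerateQuadraticForm Q ∧
      H = quadSimilarityGroup Q ⊓ specialLinear (Fin n) F) ∨
    (∃ f : (Fin n → F) → (Fin n → F) → F, IsSymplecticForm f ∧ H = similarityGroup f ⊓ specialLinear (Fin n) F) ∨
    (∃ (σ : F ≃+* F) (f : (Fin n → F) → (Fin n → F) → F), IsUnitaryForm σ f ∧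
      H = similarityGroup f ⊓ specialLinear (Fin n) F) ∨
    InLinearResidualClass H := by
  classical
  have hm3 : 3 ≤ m := by
    obtain ⟨k, hk⟩ := hodd
    have := hm.two_le
    omega
  have hc : Fintype.card (Fin n) = 2 * m := by rw [Fintype.card_fin, hn]
  haveI : Nonempty (Fin n) := ⟨⟨0, by omega⟩⟩
  have hcard3 : 3 ≤ Fintype.card (Fin n) := by omega
  have hq2 : 2 ≤ Fintype.card F := Fintype.one_lt_card
  by_contra hout
  simp only [not_or] at hout
  obtain ⟨oW, oL, oP, oH, oK2, oKm, oT, oS, oQ, oF, oU, oR⟩ := hout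
  -- reducible case
  have hirr : ActsIrreducibly (matrixSet H) := by
    intro W hW
    by_contra hcon
    push Not at hcon
    refine oW ⟨W, hcon.1, hcon.2, eq_inf hH (fun g hg v => ⟨fun hv => ?_, fun hv => ?_⟩) (not_le_subspaceStabilizer hcon.1 hcon.2)⟩
    · exact hW _ ⟨g, hg, rfl⟩ ⟨v, hv, toLin'_apply _ _⟩
    · have hv' : (g : Matrix (Fin n) (Fin n) F) *ᵥ v ∈ W := hv
      have := hW _ ⟨g⁻¹, inv_mem hg, rfl⟩ ⟨_, hv', toLin'_apply _ _⟩
      simpa [mulVec_mulVec] using this
  have oQ' : ∀ Q : (Fin n → F) → F, Odd (Fintype.card F) → IsNondegenerateQuadraticForm Q → ¬ H ≤ quadSimilarityGroup Q := by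
    intro Q hoddq hQ hle
    refine oQ ⟨hoddq, Q, hQ, eq_inf hH hle fun h => ?_⟩
    refine not_le_similarityGroup hcard3 (QuadraticMap.polar Q) (RingEquiv.refl F) (fun a => hQ.polar_bilinear.add_right a)
      (fun a x c => hQ.polar_bilinear.smul_right c a x) hQ.nondegenerate (h.trans ?_)
    rintro g ⟨c, hc⟩
    refine ⟨c, fun u v => ?_⟩
    simp only [QuadraticMap.polar, ← mulVec_add, hc]
    ring
  have oF' : ∀ f : (Fin n → F) → (Fin n → F) → F, IsSymplecticForm f → ¬ H ≤ similarityGroup f := fun f hf hle =>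
    oF ⟨f, hf, eq_inf hH hle (not_le_similarityGroup hcard3 f (RingEquiv.refl F) hf.bilinear.add_right
      (fun a x c => hf.bilinear.smul_right c a x) hf.nondegenerate)⟩
  have oU' : ∀ (σ : F ≃+* F) (f : (Fin n → F) → (Fin n → F) → F), IsUnitaryForm σ f → ¬ H ≤ similarityGroup f := fun σ f hf hle =>
    oU ⟨σ, f, hf, eq_inf hH hle (not_le_similarityGroup hcard3 f σ (Sesq.of_unitary hf).add_right
      (fun a x c => (Sesq.of_unitary hf).smul_right c a x) hf.nondegenerate)⟩
  -- decompositions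
  have hdec : ∀ (t k : ℕ) (D : Fin t → Submodule F (Fin n → F)), IsMDecomposition k D → ¬ H ≤ decompositionStabilizer D := by
    intro t k D hD hle
    have htk : t * k = 2 * m := by
      obtain ⟨b, -⟩ := decomp_coords hD
      have := Module.finrank_eq_card_basis b
      simp only [Module.finrank_fintype_fun_eq_card, Fintype.card_fin, Fintype.card_prod] at this
      omega
    have hp := hD.pos
    have ht := hD.two_le
    have hk : k = 1 ∨ k = 2 ∨ k = m := by
      obtain ⟨d₁, d₂, h₁, h₂, hdd⟩ := (Nat.dvd_mul).1 (⟨t, by rw [← htk, mul_comm]⟩ : k ∣ 2 * m)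
      rcases (Nat.dvd_prime Nat.prime_two).1 h₁ with hd1 | hd1 <;> rcases (Nat.dvd_prime hm).1 h₂ with hd2 | hd2 <;>
        rw [hd1, hd2] at hdd <;> try omega
      rw [← hdd] at htk
      exfalso
      have : t * (2 * m) = 1 * (2 * m) := by omega
      have := Nat.eq_of_mul_eq_mul_right (by omega) this
      omega
    have hnle := not_le_decompositionStabilizer hD hcard3
    rcases hk with rfl | rfl | rfl
    · have e : t = n := by omega
      subst e
      by_cases hq : 5 ≤ Fintype.card F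
      · exact oL ⟨hq, D, hD, eq_inf hH hle hnle⟩
      · have : Fintype.card F = 2 ∨ Fintype.card F = 3 ∨ Fintype.card F = 4 := by omega
        rcases this with hq | hq | hq
        · exact lines_two hq hD (by omega) hle hirr
        · obtain ⟨Q, hQ, hQle⟩ := lines_three hq hD hle
          exact oQ' Q (by rw [hq]; decide) hQ hQle
        · obtain ⟨s, f, hf, hfle⟩ := lines_four hq hD hle
          exact oU' s f hf hfle
    · have e : t = m := by omega
      obtain ⟨D', hD', hle'⟩ := le_decomposition_of e hD hle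
      clear hnle hle hD D
      have hnle := not_le_decompositionStabilizer hD' hcard3
      have hle := hle'; have hD := hD'
      by_cases hq : 3 ≤ Fintype.card F
      · exact oP ⟨hq, D', hD, eq_inf hH hle hnle⟩
      · obtain ⟨f, hf, hfle⟩ := planes_two (by omega) hD hle
        exact oF' f hf hfle
    · have e : t = 2 := Nat.eq_of_mul_eq_mul_right hm.pos htk
      subst e
      exact oH ⟨D, hD, eq_inf hH hle hnle⟩
  -- invariant commutative algebras are scalar
  have hcomm : ∀ A : Subalgebra F (Matrix (Fin n) (Fin n) F), Inv H A → (∀ x ∈ A, ∀ y ∈ A, x * y = y * x) →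
      ∀ a ∈ A, ∃ c : F, a = c • 1 := by
    intro A hA hAc a ha
    rcases comm_cases hirr hA hAc with hf | ⟨t, k, D, hD, hle⟩
    · rcases field_cases hn hm hf hA with h1 | ⟨r', K, hr', hK, hle⟩
      · obtain ⟨v, hv⟩ := finrank_eq_one_iff'.1 h1
        obtain ⟨c₁, hc₁⟩ := hv.2 ⟨a, ha⟩
        obtain ⟨c₂, hc₂⟩ := hv.2 1
        have hc20 : c₂ ≠ 0 := fun h0 => by
          rw [h0, zero_smul] at hc₂
          exact one_ne_zero (α := Matrix (Fin n) (Fin n) F) (congrArg Subtype.val hc₂).symm
        have h1' := congrArg Subtype.val hc₂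
        have h2' := congrArg Subtype.val hc₁
        simp only [Subalgebra.coe_smul, Subalgebra.coe_one] at h1' h2'
        exact ⟨c₁ * c₂⁻¹, by rw [← h1', ← h2', smul_smul, inv_mul_cancel_right₀ hc20]⟩
      · rcases hr' with rfl | rfl
        · exact absurd ⟨K, hK, eq_inf hH hle (not_le_subalgebraNormalizer hK le_rfl hcard3)⟩ oK2
        · exact absurd ⟨K, hK, eq_inf hH hle (not_le_subalgebraNormalizer hK hm.two_le hcard3)⟩ oKm
    · exact absurd hle (hdec t k D hD)
  -- tensor decompositions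
  have htens : ∀ (e : Fin n ≃ Fin 2 × Fin m) (P : GL (Fin n) F), ¬ H ≤ tensorProductSubgroup 2 m e P := by
    intro e P hle
    by_cases hq : 3 ≤ Fintype.card F
    · exact oT ⟨hq, e, P, eq_inf hH hle (not_le_tensorProductSubgroup le_rfl hm.two_le e P)⟩
    have hq' : Fintype.card F = 2 := by omega
    let R : Matrix (Fin 2 × Fin m) (Fin 2 × Fin m) F ≃ₐ[F] Matrix (Fin n) (Fin n) F :=
      (Matrix.reindexAlgEquiv F F e.symm).trans (cjA P)
    let W : Matrix (Fin 2) (Fin 2) F := !![0, 1; 1, 1]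
    let X := R (W ⊗ₖ (1 : Matrix (Fin m) (Fin m) F))
    let K := Algebra.adjoin F ({X} : Set (Matrix (Fin n) (Fin n) F))
    have hKc : ∀ x ∈ K, ∀ y ∈ K, x * y = y * x := by
      intro x hx y hy
      exact congrArg Subtype.val ((Algebra.adjoinCommRingOfComm F (s := ({X} : Set (Matrix (Fin n) (Fin n) F)))
        (by simp)).mul_comm ⟨x, hx⟩ ⟨y, hy⟩)
    have hKi : Inv H K := by
      intro h hh a ha
      induction ha using Algebra.adjoin_induction with
      | mem y hy =>
        obtain rfl := Set.mem_singleton_iff.1 hy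
        obtain ⟨_, ⟨g, ⟨A, B, hg⟩, rfl⟩, rfl⟩ := hle hh
        set gg := (MulAut.conj P).toMonoidHom ((glReindex e.symm).toMonoidHom g)
        have hval : (gg : Matrix (Fin n) (Fin n) F) = R (g : Matrix (Fin 2 × Fin m) (Fin 2 × Fin m) F) := rfl
        have key : ∀ Y : Matrix (Fin 2) (Fin 2) F, (A : Matrix (Fin 2) (Fin 2) F) * W = Y * A →
            cjA gg X = R (Y ⊗ₖ 1) := by
          intro Y hY
          rw [cjA_apply, Units.mul_inv_eq_iff_eq_mul, hval, ← map_mul, ← map_mul, hg, ← mul_kronecker_mul,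
            ← mul_kronecker_mul, hY, one_mul, mul_one]
        rcases two_by_two hq' A with h2 | h2
        · rw [key _ h2]; exact Algebra.subset_adjoin rfl
        · rw [key _ h2, add_kronecker, one_kronecker_one, map_add, map_one]
          exact add_mem (one_mem _) (Algebra.subset_adjoin rfl)
      | algebraMap c => rw [AlgEquiv.commutes]; exact Subalgebra.algebraMap_mem _ c
      | add a b _ _ ha hb => rw [map_add]; exact add_mem ha hb
      | mul a b _ _ ha hb => rw [map_mul]; exact mul_mem ha hb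
    obtain ⟨c, hc⟩ := hcomm K hKi hKc X (Algebra.subset_adjoin rfl)
    have h0 : W ⊗ₖ (1 : Matrix (Fin m) (Fin m) F) = c • 1 := R.injective (by rw [map_smul, map_one]; exact hc)
    have := congrFun₂ h0 (0, ⟨0, hm.pos⟩) (1, ⟨0, hm.pos⟩)
    simp [W, Matrix.kroneckerMap_apply, Matrix.one_apply] at this
  have hG : NoGeo m H := ⟨hirr, hcomm, htens⟩
  have hnsc : ¬ H ≤ scalars (Fin n) F := by
    intro hle
    let i₀ : Fin n := ⟨0, by omega⟩
    set v : Fin n → F := Pi.single i₀ 1
    have hv : v ≠ 0 := fun h => one_ne_zero (α := F) (by simpa [v] using congrFun h i₀)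
    rcases eq_bot_or_top hirr (Submodule.span F {v}) (fun g hg x hx => by
      obtain ⟨c, hc⟩ := (mem_scalars_iff g).1 (hle hg)
      rw [hc, smul_mulVec, one_mulVec]
      exact Submodule.smul_mem _ _ hx) with h | h
    · exact hv (by simpa using h)
    · have := finrank_span_singleton (K := F) hv
      rw [h, finrank_top, Module.finrank_fintype_fun_eq_card] at this
      omega
  obtain ⟨P, hPH, hPn, hperf, hsimp, hnab, htop, hcent⟩ := exists_core hc hm hodd hG hnsc
  have hfix : ∀ (σ : F ≃+* F) (f : (Fin n → F) → (Fin n → F) → F), Sesq σ f → IsNondegenerateForm f →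
      FixesForm (matrixSet P) f → H ≤ similarityGroup f := fun σ f hf hnd hfix => le_similarityGroup htop hPn hf hnd hfix
  refine oR ⟨P, ⟨hPH, hPn, hperf, hsimp, hnab, hcent, absIrred_of_top htop, fun F₀ hF₀ hreal => ?_⟩, ?_, ?_, ?_⟩
  · obtain ⟨F₁, r, B, hr, hcard, hF₁, hle⟩ := exists_subfield (by omega) htop hPn hF₀ hreal
    exact oS ⟨F₁, r, B, hr, hcard, eq_inf hH hle (not_le_subfieldSubgroup hF₁ B (by omega))⟩
  · rintro ⟨Q, hQ, hQfix⟩
    have hpfix : FixesForm (matrixSet P) (QuadraticMap.polar Q) := fun s hs u v => by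
      simp only [QuadraticMap.polar, ← mulVec_add, hQfix s hs]
    have hsim := hfix _ _ (Sesq.of_bilinear hQ.polar_bilinear) hQ.nondegenerate hpfix
    have hdiag : ∀ v, QuadraticMap.polar Q v v = 2 * Q v := fun v => by
      have h := hQ.smul 2 v
      rw [two_smul] at h
      simp only [QuadraticMap.polar, h]
      ring
    by_cases hq : Odd (Fintype.card F)
    · refine oQ' Q hq hQ fun g hg => ?_
      obtain ⟨c, hc⟩ := hsim hg
      refine ⟨c, fun v => ?_⟩
      have h1 := hc v v
      rw [hdiag, hdiag] at h1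
      have h2 : (2 : F) ≠ 0 := Ring.two_ne_zero fun hr => by
        have := FiniteField.even_card_iff_char_two.1 hr
        rw [Nat.odd_iff] at hq
        omega
      exact mul_left_cancel₀ h2 (by linear_combination h1)
    · have h2 : (2 : F) = 0 := by
        have hr : ringChar F = 2 := FiniteField.even_card_iff_char_two.2 (by rw [Nat.odd_iff] at hq; omega)
        have := ringChar.Nat.cast_ringChar (R := F)
        rw [hr] at this
        exact_mod_cast this
      refine oF' (QuadraticMap.polar Q) ⟨hQ.polar_bilinear, fun u v => ?_, fun v => by rw [hdiag, h2, zero_mul], hQ.nondegenerate⟩ hsim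
      rw [QuadraticMap.polar_comm]
      linear_combination (QuadraticMap.polar Q v u) * h2
  · rintro ⟨f, hf, hffix⟩
    exact oF' f hf (hfix _ _ (Sesq.of_bilinear hf.bilinear) hf.nondegenerate hffix)
  · rintro ⟨σ, f, hf, hffix⟩
    exact oU' σ f hf (hfix _ _ (Sesq.of_unitary hf) hf.nondegenerate hffix)

end Cfsg.Agent.Lib.SLTwoPrime
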